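import Groth.Prelude.Def_AutFam
import Groth.Prelude.Def_QuotSh
import Groth.Agent.MiscTwoH99.AffSheafDesc

/-!
# The functor of families of homomorphisms between two groups, and its sheaf property
-/

set_option autoImplicit false
set_option backward.isDefEq.respectTransparency false
set_option backward.isDefEq.respectTransparency.types false

universe u

open CategoryTheory CategoryTheory.Limits MonoidalCategory CartesianMonoidalCategory MonObj Opposite AlgebraicGeometry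

namespace Groth.Agent.HomRep18

variable {S : Scheme.{u}}

theorem isHomFamily_whisker {H G T T' : Over S} [GrpObj H] [GrpObj G] {φ : H ⊗ T ⟶ G}
    (hφ : AutFam.IsHomFamily H G φ) (t : T' ⟶ T) : AutFam.IsHomFamily H G ((H ◁ t) ≫ φ) := by
  intro X g₁ g₂ x
  simp only [lift_whiskerLeft_assoc]
  exact hφ X g₁ g₂ (x ≫ t)

/-- The functor of families of homomorphisms from `H` to `G`. -/
noncomputable def homFun (H G : Over S) [GrpObj H] [GrpObj G] : (Over S)ᵒᵖ ⥤ Type u where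
  obj T := {φ : H ⊗ unop T ⟶ G // AutFam.IsHomFamily H G φ}
  map t := TypeCat.ofHom fun φ => ⟨(H ◁ t.unop) ≫ φ.1, isHomFamily_whisker φ.2 t.unop⟩
  map_id T := ConcreteCategory.hom_ext _ _ fun φ => Subtype.ext (by
    show (H ◁ 𝟙 _) ≫ φ.1 = φ.1
    rw [MonoidalCategory.whiskerLeft_id, Category.id_comp])
  map_comp t t' := ConcreteCategory.hom_ext _ _ fun φ => Subtype.ext (by
    show (H ◁ (t'.unop ≫ t.unop)) ≫ φ.1 = (H ◁ t'.unop) ≫ (H ◁ t.unop) ≫ φ.1
    rw [MonoidalCategory.whiskerLeft_comp, Category.assoc])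

variable {H G : Over S} [GrpObj H] [GrpObj G]

theorem homFun_map {T T' : Over S} (t : T' ⟶ T) (φ : (homFun H G).obj (op T)) :
    ((homFun H G).map t.op φ).1 = (H ◁ t) ≫ φ.1 := rfl

/-- Families of homomorphisms form a sheaf for a subcanonical topology. -/
theorem isSheaf_homFun (J : GrothendieckTopology (Over S)) [J.Subcanonical] :
    Presieve.IsSheaf J (homFun H G) := by
  intro T R hR x hx
  have hG : Presieve.IsSheaf J (yoneda.obj G) :=
    GrothendieckTopology.Subcanonical.isSheaf_of_isRepresentable _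
  let R' : Sieve (H ⊗ T) := R.pullback (snd H T)
  let x' : Presieve.FamilyOfElements (yoneda.obj G) R'.arrows := fun Y l hl =>
    lift (l ≫ fst H T) (𝟙 Y) ≫ (x (l ≫ snd H T) hl).1
  have xeq : ∀ {Y : Over S} {a b : Y ⟶ T} (ha : R.arrows a) (hb : R.arrows b), a = b → (x a ha).1 = (x b hb).1 := by
    rintro Y a b ha hb rfl; rfl
  have hxc : ∀ {Y Y' : Over S} (k : Y' ⟶ Y) (l : Y ⟶ T) (hl : R.arrows l) (hl' : R.arrows (k ≫ l)),
      (H ◁ k) ≫ (x l hl).1 = (x (k ≫ l) hl').1 := by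
    intro Y Y' k l hl hl'
    have := hx k (𝟙 Y') hl hl' (by rw [Category.id_comp])
    rw [op_id, Functor.map_id_apply] at this
    exact congrArg Subtype.val this
  have hx' : x'.Compatible := by
    intro Y₁ Y₂ Z g₁ g₂ f₁ f₂ h₁ h₂ hg
    show g₁ ≫ lift (f₁ ≫ fst H T) (𝟙 Y₁) ≫ (x _ h₁).1 = g₂ ≫ lift (f₂ ≫ fst H T) (𝟙 Y₂) ≫ (x _ h₂).1
    have k₁ : R.arrows (g₁ ≫ f₁ ≫ snd H T) := R.downward_closed h₁ g₁
    have k₂ : R.arrows (g₂ ≫ f₂ ≫ snd H T) := R.downward_closed h₂ g₂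
    have e₁ := hxc g₁ (f₁ ≫ snd H T) h₁ k₁
    have e₂ := hxc g₂ (f₂ ≫ snd H T) h₂ k₂
    have e : (x (g₁ ≫ f₁ ≫ snd H T) k₁).1 = (x (g₂ ≫ f₂ ≫ snd H T) k₂).1 := xeq k₁ k₂ (by rw [reassoc_of% hg])
    rw [comp_lift_assoc, comp_lift_assoc, Category.comp_id, Category.comp_id,
      show lift (g₁ ≫ f₁ ≫ fst H T) g₁ = lift (g₁ ≫ f₁ ≫ fst H T) (𝟙 Z) ≫ (H ◁ g₁) by
        rw [lift_whiskerLeft, Category.id_comp],
      show lift (g₂ ≫ f₂ ≫ fst H T) g₂ = lift (g₂ ≫ f₂ ≫ fst H T) (𝟙 Z) ≫ (H ◁ g₂) by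
        rw [lift_whiskerLeft, Category.id_comp],
      Category.assoc, Category.assoc, e₁, e₂, e, reassoc_of% hg]
  obtain ⟨φ, hφ, huniq⟩ := hG R' (J.pullback_stable _ hR) x' hx'
  replace hφ : ∀ {Y : Over S} (l : Y ⟶ H ⊗ T) (hl : R'.arrows l), l ≫ φ = x' l hl := fun l hl => hφ l hl
  have hval : ∀ {Y : Over S} (t : Y ⟶ T) (ht : R.arrows t), (H ◁ t) ≫ φ = (x t ht).1 := by
    intro Y t ht
    have h2 : R.arrows (snd H Y ≫ t) := R.downward_closed ht _
    have h1 : R'.arrows (H ◁ t) := by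
      show R.arrows ((H ◁ t) ≫ snd H T)
      rw [whiskerLeft_snd]; exact h2
    rw [hφ _ h1]
    show lift ((H ◁ t) ≫ fst H T) (𝟙 _) ≫ (x ((H ◁ t) ≫ snd H T) _).1 = _
    rw [xeq _ h2 (whiskerLeft_snd H t), whiskerLeft_fst]
    rw [← hxc (snd H Y) t ht h2, lift_whiskerLeft_assoc, Category.id_comp, lift_fst_snd, Category.id_comp]
  have hhom : AutFam.IsHomFamily H G φ := by
    intro X g₁ g₂ t
    have hsep := (hG (R.pullback t) (J.pullback_stable _ hR)).isSeparatedFor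
    refine hsep.ext fun Y k hk => ?_
    show k ≫ lift (g₁ * g₂) t ≫ φ = k ≫ ((lift g₁ t ≫ φ) * (lift g₂ t ≫ φ))
    have key : ∀ g : X ⟶ H, k ≫ lift g t ≫ φ = lift (k ≫ g) (𝟙 Y) ≫ (x (k ≫ t) hk).1 := by
      intro g
      rw [← hval (k ≫ t) hk, lift_whiskerLeft_assoc, Category.id_comp, comp_lift_assoc]
    rw [key, MonObj.comp_mul, MonObj.comp_mul, key, key]
    exact (x (k ≫ t) hk).2 Y (k ≫ g₁) (k ≫ g₂) (𝟙 Y)
  refine ⟨⟨φ, hhom⟩, fun Y t ht => Subtype.ext (hval t ht), fun ψ hψ => Subtype.ext (huniq ψ.1 fun Y l hl => ?_)⟩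
  show l ≫ ψ.1 = lift (l ≫ fst H T) (𝟙 Y) ≫ (x (l ≫ snd H T) hl).1
  rw [← congrArg Subtype.val (hψ (l ≫ snd H T) hl), homFun_map, lift_whiskerLeft_assoc, Category.id_comp]
  rw [← comp_lift_assoc, lift_fst_snd]
  exact (congrArg (l ≫ ·) (Category.id_comp _)).symm

/-- Open covers generate fppf coverings over a base. -/
theorem mem_J.{v} (T : Over S) (𝒱 : Scheme.OpenCover.{v} T.left) :
    Sieve.generate (Presieve.ofArrows _ fun i => (Over.homMk (𝒱.f i) rfl : Over.mk (𝒱.f i ≫ T.hom) ⟶ T)) ∈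
      QuotSh.J Scheme.fppfPrecoverage S T := by
  rw [GrothendieckTopology.mem_over_iff]
  refine GrothendieckTopology.superset_covering _ ?_
    (Precoverage.generate_mem_toGrothendieck (Scheme.zariskiPrecoverage_le_fppfPrecoverage _ 𝒱.mem₀))
  rw [Sieve.generate_le_iff]
  rintro _ _ ⟨i⟩
  rw [Sieve.overEquiv_iff]
  exact Sieve.ofArrows_mk _ _ i

theorem isSheafFor_openCover.{v} (T : Over S) (𝒱 : Scheme.OpenCover.{v} T.left) :
    (Presieve.ofArrows _ fun i =>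
      (Over.homMk (𝒱.f i) rfl : Over.mk (𝒱.f i ≫ T.hom) ⟶ T)).IsSheafFor (homFun H G) :=
  (Presieve.isSheafFor_iff_generate _).mpr (isSheaf_homFun _ _ (mem_J T 𝒱))

end Groth.Agent.HomRep18
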