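import Groth.Agent.HomRep18.SplitHom
import Groth.Agent.HomRep18.HomSheaf
import Groth.Agent.TwC10.Basic

/-!
# The homomorphisms between split groups of multiplicative type form a constant scheme
-/

universe u

open CategoryTheory CategoryTheory.Limits MonoidalCategory CartesianMonoidalCategory MonObj Opposite AlgebraicGeometry
open Groth.Agent.GrpSchLib.AffineHopf
open Groth.Agent.FreeAct18 (uG uX uG_single)

set_option backward.isDefEq.respectTransparency false
set_option linter.style.haveILetI false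
set_option synthInstance.maxHeartbeats 400000
set_option maxHeartbeats 1000000

namespace Groth.Agent.HomRep18

variable {R : Type u} [CommRing R] {M N : Type u} [CommGroup M] [CommGroup N]

/-- The homomorphism of a homomorphism of character groups. -/
noncomputable def cMap (ψ : N →* M) : sp R (MonoidAlgebra R M) ⟶ sp R (MonoidAlgebra R N) :=
  spMap ((MonoidAlgebra.mapDomainBialgHom R ψ : _ →ₐc[R] _) : MonoidAlgebra R N →ₐ[R] MonoidAlgebra R M)

/-- The coordinate map of the constant family. -/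
noncomputable def cAlg (T : Type u) [CommRing T] [Algebra R T] (ψ : N →* M) : MonoidAlgebra R N →ₐ[R] MonoidAlgebra T M :=
  (uG (k := R) (A := T) (N := M)).comp
    ((MonoidAlgebra.mapDomainBialgHom R ψ : _ →ₐc[R] _) : MonoidAlgebra R N →ₐ[R] MonoidAlgebra R M)

theorem cAlg_single (T : Type u) [CommRing T] [Algebra R T] (ψ : N →* M) (n : N) :
    cAlg (R := R) T ψ (MonoidAlgebra.single n 1) = MonoidAlgebra.single (ψ n) 1 := by
  show uG (MonoidAlgebra.mapDomainBialgHom R ψ (MonoidAlgebra.single n 1)) = _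
  rw [show MonoidAlgebra.mapDomainBialgHom R ψ (MonoidAlgebra.single n (1 : R)) = MonoidAlgebra.single (ψ n) 1 from
    MonoidAlgebra.mapDomain_single, uG_single]

theorem fam_cAlg (T : Type u) [CommRing T] [Algebra R T] (ψ : N →* M) :
    fam (cAlg (R := R) T ψ) = fst _ _ ≫ cMap ψ := by
  rw [fam, IsIso.inv_comp_eq, pr, lift_fst_assoc, cMap, spMap_comp]
  rfl

/-- The constant family. -/
noncomputable def kfam (T : Over (Spec (CommRingCat.of R))) (ψ : N →* M) :
    (homFun (sp R (MonoidAlgebra R M)) (sp R (MonoidAlgebra R N))).obj (op T) :=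
  ⟨fst _ T ≫ cMap ψ, fun X g₁ g₂ t => by
    haveI : IsMonHom (cMap (R := R) ψ) := isMonHom_spMap _
    rw [lift_fst_assoc, lift_fst_assoc, lift_fst_assoc, MonObj.mul_comp]⟩

theorem map_kfam {T T' : Over (Spec (CommRingCat.of R))} (t : T' ⟶ T) (ψ : N →* M) :
    (sp R (MonoidAlgebra R M) ◁ t) ≫ (kfam T ψ).1 = (kfam T' ψ).1 :=
  whiskerLeft_fst_assoc _ _ _

theorem hom_ext_of_isEmpty {S : Scheme.{u}} {A B : Over S} (hA : IsEmpty A.left) (f g : A ⟶ B) : f = g :=
  Over.OverMorphism.ext ((isInitialOfIsEmpty (X := A.left)).hom_ext _ _)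

theorem isEmpty_tensor {S : Scheme.{u}} (X : Over S) {Z : Over S} (hZ : IsEmpty Z.left) : IsEmpty (X ⊗ Z).left :=
  Function.isEmpty (snd X Z).left

theorem kfam_eq {T : Over (Spec (CommRingCat.of R))} {ψ ψ' : N →* M} (h : Nonempty T.left → ψ = ψ') :
    (kfam T ψ).1 = (kfam T ψ').1 := by
  by_cases hT : Nonempty T.left
  · rw [h hT]
  · exact hom_ext_of_isEmpty (isEmpty_tensor _ (not_nonempty_iff.mp hT)) _ _

theorem kfam_inj {T : Over (Spec (CommRingCat.of R))} (t : T.left) {ψ ψ' : N →* M}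
    (h : (kfam T ψ).1 = (kfam T ψ').1) : ψ = ψ' := by
  let K : Type u := T.left.residueField t
  let q : CommRingCat.of R ⟶ CommRingCat.of K := Spec.preimage (T.left.fromSpecResidueField t ≫ T.hom)
  letI : Algebra R K := q.hom.toAlgebra
  have hq : Spec.map q = T.left.fromSpecResidueField t ≫ T.hom := Spec.map_preimage _
  let k : sp R K ⟶ T := Over.homMk (T.left.fromSpecResidueField t) hq.symm
  have h2 := congrArg ((sp R (MonoidAlgebra R M) ◁ k) ≫ ·) h
  simp only [map_kfam] at h2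
  have h3 : cAlg (R := R) K ψ = cAlg (R := R) K ψ' := fam_inj (by rw [fam_cAlg, fam_cAlg]; exact h2)
  refine MonoidHom.ext fun n => ?_
  have h4 := congrArg (fun g => g (MonoidAlgebra.single n (1 : R))) h3
  simp only [cAlg_single] at h4
  haveI : Nontrivial K := inferInstanceAs (Nontrivial (T.left.residueField t))
  exact MonoidAlgebra.single_left_injective one_ne_zero h4

/-- Near a point where its coefficients do not vanish, a family is constant. -/
theorem exists_away_single {A : Type u} [CommRing A] [Algebra R A] (p : Ideal A) [p.IsPrime]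
    (g : MonoidAlgebra R N →ₐ[R] MonoidAlgebra A M) (hg : ∀ n, IsGL (g (MonoidAlgebra.single n 1)))
    (hN : Group.FG N) :
    ∃ f : A, f ∉ p ∧ ∀ n, ∃ m, MonoidAlgebra.mapAlgHom M (IsScalarTower.toAlgHom R A (Localization.Away f))
      (g (MonoidAlgebra.single n 1)) = MonoidAlgebra.single m 1 := by
  classical
  let gn : N → MonoidAlgebra A M := fun n => g (MonoidAlgebra.single n 1)
  have hmul : ∀ a b, gn (a * b) = gn a * gn b := fun a b => by
    simp only [gn, ← map_mul, MonoidAlgebra.single_mul_single, _root_.mul_one]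
  have h1 : gn 1 = 1 := by simp only [gn, ← MonoidAlgebra.one_def, map_one]
  have hex : ∀ n, ∃ m, (gn n).coeff m ∉ p := by
    intro n
    by_contra hall
    push Not at hall
    let q : A →ₐ[R] A ⧸ p := Ideal.Quotient.mkₐ R p
    have h0 : MonoidAlgebra.mapAlgHom M q (gn n) = 0 := by
      refine MonoidAlgebra.ext (Finsupp.ext fun m => ?_)
      simpa [q, Ideal.Quotient.eq_zero_iff_mem] using hall m
    have h2 := congrArg (MonoidAlgebra.mapAlgHom M q) (hmul n n⁻¹)
    rw [mul_inv_cancel, h1, map_one, map_mul, h0, zero_mul] at h2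
    exact one_ne_zero h2
  choose m hm using hex
  obtain ⟨G₀, hG₀⟩ := hN.out
  let f : A := ∏ n ∈ G₀, (gn n).coeff (m n)
  refine ⟨f, fun hf => ?_, fun n => ?_⟩
  · obtain ⟨n, -, hn⟩ := (Ideal.IsPrime.prod_mem_iff).mp hf
    exact hm n hn
  let h : A →ₐ[R] Localization.Away f := IsScalarTower.toAlgHom R A (Localization.Away f)
  have hgen : ∀ n ∈ G₀, MonoidAlgebra.mapAlgHom M h (gn n) = MonoidAlgebra.single (m n) 1 := by
    intro n hn
    refine MonoidAlgebra.ext (Finsupp.ext fun a => ?_)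
    have hu : IsUnit (h ((gn n).coeff (m n))) :=
      isUnit_of_dvd_unit (map_dvd h (Finset.dvd_prod_of_mem (fun n => (gn n).coeff (m n)) hn))
        (IsLocalization.Away.algebraMap_isUnit (S := Localization.Away f) f)
    have e1 : h ((gn n).coeff (m n)) = 1 := by
      have := congrArg h ((hg n).idem (m n))
      rw [map_mul] at this
      exact (IsUnit.mul_eq_left hu).mp this
    rw [MonoidAlgebra.coeff_single, Finsupp.single_apply]
    have ec : (MonoidAlgebra.mapAlgHom M h (gn n)).coeff a = h ((gn n).coeff a) := by simp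
    rw [ec]
    split_ifs with hma
    · rw [← hma]; exact e1
    · have := congrArg h ((hg n).orth hma)
      rw [map_mul, e1, _root_.one_mul, map_zero] at this
      exact this
  have hn : n ∈ Subgroup.closure (G₀ : Set N) := by rw [hG₀]; trivial
  show ∃ m, MonoidAlgebra.mapAlgHom M h (gn n) = MonoidAlgebra.single m 1
  induction hn using Subgroup.closure_induction with
  | mem x hx => exact ⟨m x, hgen x hx⟩
  | one => exact ⟨1, by rw [h1, map_one, MonoidAlgebra.one_def]⟩
  | mul x y _ _ hx hy =>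
    obtain ⟨a, ha⟩ := hx
    obtain ⟨b, hb⟩ := hy
    exact ⟨a * b, by rw [hmul, map_mul, ha, hb, MonoidAlgebra.single_mul_single, _root_.one_mul]⟩
  | inv x _ hx =>
    obtain ⟨a, ha⟩ := hx
    refine ⟨a⁻¹, ?_⟩
    have e1 : MonoidAlgebra.mapAlgHom M h (gn x⁻¹) * MonoidAlgebra.single a 1 = 1 := by
      rw [← ha, ← map_mul, ← hmul, inv_mul_cancel, h1, map_one]
    have e2 : MonoidAlgebra.single a (1 : Localization.Away f) * MonoidAlgebra.single a⁻¹ 1 = 1 := by
      rw [MonoidAlgebra.single_mul_single, mul_inv_cancel, _root_.one_mul, MonoidAlgebra.one_def]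
    exact left_inv_eq_right_inv e1 e2

/-- A family of homomorphisms is locally constant. -/
theorem exists_const_nhd (hN : Group.FG N) {T : Over (Spec (CommRingCat.of R))}
    (φ : (homFun (sp R (MonoidAlgebra R M)) (sp R (MonoidAlgebra R N))).obj (op T)) (t : T.left) :
    ∃ (V : T.left.Opens) (ψ : N →* M), t ∈ V ∧
      (sp R (MonoidAlgebra R M) ◁ (Over.homMk V.ι rfl : Over.mk (V.ι ≫ T.hom) ⟶ T)) ≫ φ.1 =
        (kfam (Over.mk (V.ι ≫ T.hom)) ψ).1 := by
  obtain ⟨U, hU, htU, -⟩ := exists_isAffineOpen_mem_and_subset (show t ∈ (⊤ : T.left.Opens) from trivial)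
  let T₀ : Over (Spec (CommRingCat.of R)) := Over.mk (U.ι ≫ T.hom)
  haveI : IsAffine T₀.left := hU
  obtain ⟨A, _, _, ⟨i⟩⟩ := WeilRes28.exists_iso_aff T₀
  let i' : sp R A ≅ T₀ := i
  let k₀ : sp R A ⟶ T := i'.hom ≫ Over.homMk U.ι rfl
  let p : Spec (CommRingCat.of A) := i'.inv.left ⟨t, htU⟩
  have hp : k₀.left p = t := by
    show (i'.hom.left ≫ U.ι) (i'.inv.left ⟨t, htU⟩) = t
    rw [← Scheme.Hom.comp_apply, ← Category.assoc, ← Over.comp_left, i'.inv_hom_id, Over.id_left, Category.id_comp]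
    rfl
  haveI : IsOpenImmersion k₀.left := by
    haveI : IsIso i'.hom.left := ((Over.forget _).mapIso i').isIso_hom
    exact inferInstanceAs (IsOpenImmersion (i'.hom.left ≫ U.ι))
  obtain ⟨g, hg⟩ := exists_fam ((sp R (MonoidAlgebra R M) ◁ k₀) ≫ φ.1)
  have hgl := isGL_of_family (g := g) (hg ▸ isHomFamily_whisker φ.2 k₀)
  obtain ⟨f, hf, hs⟩ := exists_away_single p.asIdeal g hgl hN
  choose m hm using hs
  let h : A →ₐ[R] Localization.Away f := IsScalarTower.toAlgHom R A (Localization.Away f)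
  let k : sp R (Localization.Away f) ⟶ T := spMap h ≫ k₀
  have hh : (spMap h).left = Spec.map (CommRingCat.ofHom (algebraMap A (Localization.Away f))) := rfl
  haveI : IsOpenImmersion (spMap h).left := by rw [hh]; infer_instance
  haveI : IsOpenImmersion k.left := inferInstanceAs (IsOpenImmersion ((spMap h).left ≫ k₀.left))
  obtain ⟨p', hp'⟩ : p ∈ Set.range (PrimeSpectrum.comap (algebraMap A (Localization.Away f))) := by
    rw [PrimeSpectrum.localization_away_comap_range _ f]
    exact hf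
  haveI : Nontrivial (Localization.Away f) := PrimeSpectrum.nonempty_iff_nontrivial.mp ⟨p'⟩
  let ψ : N →* M := MonoidHom.mk' m fun a b => MonoidAlgebra.single_left_injective
    (one_ne_zero (α := Localization.Away f)) (by
      simp only
      rw [← hm, ← _root_.one_mul (1 : Localization.Away f), ← MonoidAlgebra.single_mul_single, ← hm, ← hm, ← map_mul,
        ← map_mul, MonoidAlgebra.single_mul_single, _root_.one_mul])
  have hkψ : (sp R (MonoidAlgebra R M) ◁ k) ≫ φ.1 = fst _ _ ≫ cMap ψ := by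
    rw [MonoidalCategory.whiskerLeft_comp, Category.assoc, hg, whisker_fam, ← fam_cAlg]
    exact congrArg fam (MonoidAlgebra.algHom_ext (fun n => (hm n).trans (cAlg_single _ ψ n).symm) (by ext))
  let V : T.left.Opens := k.left.opensRange
  let TV : Over (Spec (CommRingCat.of R)) := Over.mk (V.ι ≫ T.hom)
  have hr : Set.range V.ι ⊆ Set.range k.left := by rw [Scheme.Opens.range_ι]; rfl
  let q : TV ⟶ sp R (Localization.Away f) :=
    Over.homMk (IsOpenImmersion.lift k.left V.ι hr) (by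
      show _ = V.ι ≫ T.hom
      rw [← Over.w k, IsOpenImmersion.lift_fac_assoc])
  have hq : q ≫ k = (Over.homMk V.ι rfl : TV ⟶ T) := Over.OverMorphism.ext (IsOpenImmersion.lift_fac _ _ _)
  refine ⟨V, ψ, ⟨p', ?_⟩, ?_⟩
  · show ((spMap h).left ≫ k₀.left) p' = t
    rw [Scheme.Hom.comp_apply, ← hp]
    exact congrArg k₀.left hp'
  · rw [← hq, MonoidalCategory.whiskerLeft_comp, Category.assoc, hkψ]
    exact map_kfam q ψ

set_option maxHeartbeats 2000000 in
/-- The constant scheme on the homomorphisms of character groups represents the homomorphisms, the section of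
index `i` giving the homomorphism of `i`. -/
theorem exists_representsHom_const' (hN : Group.FG N) :
    ∃ υ, AutFam.RepresentsHom (sp R (MonoidAlgebra R M)) (sp R (MonoidAlgebra R N))
        (TwC.const (Spec (CommRingCat.of R)) (N →* M)) υ ∧
      ∀ i : N →* M, (sp R (MonoidAlgebra R M) ◁ TwC.pt (Spec (CommRingCat.of R)) (N →* M) i) ≫ υ =
        fst _ _ ≫ cMap i := by
  classical
  let B : Over (Spec (CommRingCat.of R)) := TwC.const (Spec (CommRingCat.of R)) (N →* M)
  let X := sp R (MonoidAlgebra R M)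
  let 𝒰 : Scheme.OpenCover.{u} B.left := sigmaOpenCover fun _ : N →* M => Spec (CommRingCat.of R)
  have hdis : ∀ {Z : Scheme.{u}} (i j : N →* M) (a : Z ⟶ Spec (CommRingCat.of R)) (b : Z ⟶ Spec (CommRingCat.of R)),
      a ≫ Sigma.ι (fun _ : N →* M => Spec (CommRingCat.of R)) i = b ≫ Sigma.ι (fun _ : N →* M => Spec (CommRingCat.of R)) j → Nonempty Z → i = j := by
    rintro Z i j a b hab ⟨z⟩
    by_contra hij
    have h2 : (Sigma.ι (fun _ : N →* M => Spec (CommRingCat.of R)) i) (a z) =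
        (Sigma.ι (fun _ : N →* M => Spec (CommRingCat.of R)) j) (b z) := by
      rw [← Scheme.Hom.comp_apply, hab, Scheme.Hom.comp_apply]
    exact (TopologicalSpace.Opens.coe_disjoint.2 (disjoint_opensRange_sigmaι
      (fun _ : N →* M => Spec (CommRingCat.of R)) i j hij)).le_bot ⟨⟨a z, h2⟩, ⟨b z, rfl⟩⟩
  let fi : ∀ i : N →* M, Over.mk (Sigma.ι (fun _ : N →* M => Spec (CommRingCat.of R)) i ≫ B.hom) ⟶ B :=
    fun i => Over.homMk (Sigma.ι (fun _ : N →* M => Spec (CommRingCat.of R)) i) rfl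
  obtain ⟨e, he, -⟩ := (Presieve.isSheafFor_arrows_iff _ _).mp
    (isSheafFor_openCover (H := X) (G := sp R (MonoidAlgebra R N)) B 𝒰) (fun i => kfam _ i)
    (fun i j Z gi gj hg => Subtype.ext (by
      show (X ◁ gi) ≫ _ = (X ◁ gj) ≫ _
      rw [map_kfam, map_kfam]
      exact kfam_eq fun hZ => hdis i j gi.left gj.left (congrArg Over.Hom.left hg) hZ))
  have he' : ∀ i, (X ◁ fi i) ≫ e.1 = (kfam _ i).1 := fun i => congrArg Subtype.val (he i)
  refine ⟨e.1, ⟨e.2, fun T φ hφ => ?_⟩, fun i => ?_⟩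
  rotate_left
  · let m₀ : 𝟙_ (Over (Spec (CommRingCat.of R))) ⟶
        Over.mk (Sigma.ι (fun _ : N →* M => Spec (CommRingCat.of R)) i ≫ B.hom) :=
      Over.homMk (𝟙 _) (by
        show 𝟙 _ ≫ Sigma.ι (fun _ : N →* M => Spec (CommRingCat.of R)) i ≫ Sigma.desc _ = 𝟙 _
        rw [Sigma.ι_desc, Category.comp_id])
    have hpt : TwC.pt (Spec (CommRingCat.of R)) (N →* M) i = m₀ ≫ fi i :=
      Over.OverMorphism.ext (Category.id_comp _).symm
    rw [hpt, MonoidalCategory.whiskerLeft_comp, Category.assoc, he']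
    exact map_kfam m₀ i
  let Φ : (homFun X (sp R (MonoidAlgebra R N))).obj (op T) := ⟨φ, hφ⟩
  choose V ψ htV hψ using exists_const_nhd hN Φ
  let 𝒱 : Scheme.OpenCover.{u} T.left :=
    T.left.openCoverOfIsOpenCover V (TopologicalSpace.IsOpenCover.mk (eq_top_iff.mpr fun t _ =>
      TopologicalSpace.Opens.mem_iSup.mpr ⟨t, htV t⟩))
  let Vt : T.left → Over (Spec (CommRingCat.of R)) := fun t => Over.mk ((V t).ι ≫ T.hom)
  let st : ∀ t, Vt t ⟶ T := fun t => Over.homMk (V t).ι rfl
  let mt : ∀ t, Vt t ⟶ Over.mk (Sigma.ι (fun _ : N →* M => Spec (CommRingCat.of R)) (ψ t) ≫ B.hom) :=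
    fun t => Over.homMk (Vt t).hom (by
      show (Vt t).hom ≫ Sigma.ι (fun _ : N →* M => Spec (CommRingCat.of R)) (ψ t) ≫ Sigma.desc _ = _
      rw [Sigma.ι_desc, Category.comp_id])
  have hy : Presieve.IsSheaf (QuotSh.J Scheme.fppfPrecoverage (Spec (CommRingCat.of R))) (yoneda.obj B) :=
    GrothendieckTopology.Subcanonical.isSheaf_of_isRepresentable _
  obtain ⟨a, ha, -⟩ := (Presieve.isSheafFor_arrows_iff _ _).mp
    ((Presieve.isSheafFor_iff_generate _).mpr (hy _ (mem_J T 𝒱))) (fun t : T.left => mt t ≫ fi (ψ t))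
    (by
      intro (i : T.left) (j : T.left) Z (gi : Z ⟶ Vt i) (gj : Z ⟶ Vt j) (hg : gi ≫ st i = gj ≫ st j)
      show gi ≫ mt i ≫ fi (ψ i) = gj ≫ mt j ≫ fi (ψ j)
      by_cases hZ : Nonempty Z.left
      · obtain ⟨z⟩ := hZ
        have h2 : (kfam Z (ψ i)).1 = (kfam Z (ψ j)).1 := calc
          (kfam Z (ψ i)).1 = (X ◁ gi) ≫ (kfam (Vt i) (ψ i)).1 := (map_kfam gi (ψ i)).symm
          _ = (X ◁ gi) ≫ (X ◁ st i) ≫ φ := congrArg ((X ◁ gi) ≫ ·) (hψ i).symm
          _ = (X ◁ gj) ≫ (X ◁ st j) ≫ φ := by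
            rw [← MonoidalCategory.whiskerLeft_comp_assoc, ← MonoidalCategory.whiskerLeft_comp_assoc, hg]
          _ = (X ◁ gj) ≫ (kfam (Vt j) (ψ j)).1 := congrArg ((X ◁ gj) ≫ ·) (hψ j)
          _ = (kfam Z (ψ j)).1 := map_kfam gj (ψ j)
        have hij := kfam_inj z h2
        refine Over.OverMorphism.ext ?_
        show gi.left ≫ (Vt i).hom ≫ Sigma.ι (fun _ : N →* M => Spec (CommRingCat.of R)) (ψ i) =
          gj.left ≫ (Vt j).hom ≫ Sigma.ι (fun _ : N →* M => Spec (CommRingCat.of R)) (ψ j)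
        rw [← Category.assoc, ← Category.assoc, Over.w gi, Over.w gj, hij]
      · exact hom_ext_of_isEmpty (not_nonempty_iff.mp hZ) _ _)
  replace ha : ∀ t, st t ≫ a = mt t ≫ fi (ψ t) := ha
  have haφ : (X ◁ a) ≫ e.1 = φ := by
    refine congrArg Subtype.val (((isSheafFor_openCover (H := X) (G := sp R (MonoidAlgebra R N)) T 𝒱).isSeparatedFor).ext
      (t₁ := (homFun X (sp R (MonoidAlgebra R N))).map a.op e) (t₂ := Φ) ?_)
    rintro _ _ ⟨t⟩
    refine Subtype.ext ?_
    show (X ◁ st t) ≫ (X ◁ a) ≫ e.1 = (X ◁ st t) ≫ φ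
    rw [← MonoidalCategory.whiskerLeft_comp_assoc, ha, MonoidalCategory.whiskerLeft_comp_assoc, he']
    exact (map_kfam (mt t) (ψ t)).trans (hψ t).symm
  refine ⟨a, haφ, fun b hb => Over.OverMorphism.ext ?_⟩
  have hcomp : ∀ (c : T ⟶ B) (t : T.left), ∃ i : N →* M,
      c.left t ∈ (Sigma.ι (fun _ : N →* M => Spec (CommRingCat.of R)) i).opensRange := fun c t => by
    obtain ⟨⟨i, y⟩, hy⟩ := (sigmaMk fun _ : N →* M => Spec (CommRingCat.of R)).surjective (c.left t)
    exact ⟨i, y, by rw [← hy, sigmaMk_mk]⟩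
  choose ia hia using hcomp a
  choose ib hib using hcomp b
  let W : T.left → T.left.Opens := fun t =>
    a.left ⁻¹ᵁ (Sigma.ι (fun _ : N →* M => Spec (CommRingCat.of R)) (ia t)).opensRange ⊓
      b.left ⁻¹ᵁ (Sigma.ι (fun _ : N →* M => Spec (CommRingCat.of R)) (ib t)).opensRange
  refine Scheme.Cover.hom_ext (T.left.openCoverOfIsOpenCover W (TopologicalSpace.IsOpenCover.mk (eq_top_iff.mpr
    fun t _ => TopologicalSpace.Opens.mem_iSup.mpr ⟨t, hia t, hib t⟩))) _ _ fun t => ?_
  show (W t).ι ≫ b.left = (W t).ι ≫ a.left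
  let Wt : Over (Spec (CommRingCat.of R)) := Over.mk ((W t).ι ≫ T.hom)
  let s : Wt ⟶ T := Over.homMk (W t).ι rfl
  let m : ∀ i : N →* M, Wt ⟶ Over.mk (Sigma.ι (fun _ : N →* M => Spec (CommRingCat.of R)) i ≫ B.hom) :=
    fun i => Over.homMk Wt.hom (by
      show Wt.hom ≫ Sigma.ι (fun _ : N →* M => Spec (CommRingCat.of R)) i ≫ Sigma.desc _ = _
      rw [Sigma.ι_desc, Category.comp_id])
  have hfac : ∀ (c : T ⟶ B) (i : N →* M),
      (∀ z, (s ≫ c).left z ∈ (Sigma.ι (fun _ : N →* M => Spec (CommRingCat.of R)) i).opensRange) →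
        s ≫ c = m i ≫ fi i := fun c i hz => Over.OverMorphism.ext (by
    rw [TwC10.eq_desc_comp_of_range (s ≫ c).left i hz]
    show ((s ≫ c).left ≫ B.hom) ≫ _ = Wt.hom ≫ _
    rw [Over.w (s ≫ c)]
    rfl)
  have hfa := hfac a (ia t) fun z => z.2.1
  have hfb := hfac b (ib t) fun z => z.2.2
  have hk : ∀ (c : T ⟶ B) (i : N →* M), s ≫ c = m i ≫ fi i → (X ◁ c) ≫ e.1 = φ → (kfam Wt i).1 = (X ◁ s) ≫ φ :=
    fun c i h1 h2 => by
      rw [← h2, ← MonoidalCategory.whiskerLeft_comp_assoc, h1, MonoidalCategory.whiskerLeft_comp_assoc, he']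
      exact (map_kfam (m i) i).symm
  have heq : ib t = ia t := kfam_inj (T := Wt) ⟨t, hia t, hib t⟩
    ((hk b _ hfb hb).trans (hk a _ hfa haφ).symm)
  show (s ≫ b).left = (s ≫ a).left
  rw [hfa, hfb, heq]

/-- The constant scheme on the homomorphisms of character groups represents the homomorphisms. -/
theorem exists_representsHom_const (hN : Group.FG N) :
    ∃ υ, AutFam.RepresentsHom (sp R (MonoidAlgebra R M)) (sp R (MonoidAlgebra R N))
      (TwC.const (Spec (CommRingCat.of R)) (N →* M)) υ :=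
  let ⟨υ, h, _⟩ := exists_representsHom_const' hN
  ⟨υ, h⟩

/-- The product of the homomorphisms of two homomorphisms of character groups. -/
theorem cMap_mul (a b : N →* M) : cMap (R := R) a * cMap b = cMap (a * b) :=
  Groth.Agent.MultCentral18.point_mul fun n => by
    show MonoidAlgebra.mapDomainBialgHom R a (MonoidAlgebra.single n 1) *
      MonoidAlgebra.mapDomainBialgHom R b (MonoidAlgebra.single n 1) =
      MonoidAlgebra.mapDomainBialgHom R (a * b) (MonoidAlgebra.single n 1)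
    simp

end Groth.Agent.HomRep18
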