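import Groth.Agent.EtEff48.EtQuot
import Groth.Agent.MiscTwoH99.AffSheafDesc

/-!
# A sheaf which is a separated étale scheme over an étale chart is a separated étale scheme on its image
-/

set_option autoImplicit false
set_option linter.style.haveILetI false
set_option backward.isDefEq.respectTransparency false
set_option backward.isDefEq.respectTransparency.types false

universe u

open CategoryTheory CategoryTheory.Limits MonoidalCategory CartesianMonoidalCategory Opposite AlgebraicGeometry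
open Groth.Agent.MiscTwoH99.AffSheafDesc (singleton_mem)

namespace Groth.Agent.HomRep18

variable {S : Scheme.{u}}

theorem exists_descended (F : (Over S)ᵒᵖ ⥤ Type u) (hF : Presieve.IsSheaf (QuotSh.J Scheme.fppfPrecoverage S) F)
    {W' Z' : Over S} [Etale W'.hom] [IsSeparated W'.hom] (z : Z' ⟶ W') [Etale z.left] [IsSeparated z.left]
    (el : F.obj (op Z'))
    (huniv : ∀ (T : Over S) (x : T ⟶ W') (φ : F.obj (op T)), ∃! w : T ⟶ Z', w ≫ z = x ∧ F.map w.op el = φ) :
    ∃ (U : Over S) (e₀ : F.obj (op U)), IsSeparated U.hom ∧ Etale U.hom ∧ Set.range U.hom ⊆ Set.range W'.hom ∧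
      ∀ (T : Over S) (φ : F.obj (op T)), Set.range T.hom ⊆ Set.range W'.hom →
        ∃! w : T ⟶ U, F.map w.op e₀ = φ := by
  have hzw : z.left ≫ W'.hom = Z'.hom := Over.w z
  haveI : Etale Z'.hom := by rw [← hzw]; infer_instance
  haveI : IsSeparated Z'.hom := by rw [← hzw]; infer_instance
  let R : Over S := Z' ⊗ W'
  let s : R ⟶ Z' := fst Z' W'
  obtain ⟨t, ⟨ht₁, ht₂⟩, -⟩ := huniv R (snd Z' W') (F.map s.op el)
  have hinj : ∀ {T : Over S} (a b : T ⟶ Z'), a ≫ z = b ≫ z → F.map a.op el = F.map b.op el → a = b :=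
    fun {T} a b h h' => (huniv T (b ≫ z) (F.map b.op el)).unique ⟨h, h'⟩ ⟨rfl, rfl⟩
  have hrel : ∀ {T : Over S} (a b : T ⟶ Z'),
      (∃ r : T ⟶ R, r ≫ t = a ∧ r ≫ s = b) ↔ F.map a.op el = F.map b.op el := by
    intro T a b
    constructor
    · rintro ⟨r, rfl, rfl⟩
      simp only [op_comp, Functor.map_comp_apply, ht₂]
    · intro h
      refine ⟨lift b (a ≫ z), hinj _ _ ?_ ?_, lift_fst _ _⟩
      · rw [Category.assoc, ht₁, lift_snd]
      · rw [h]
        simp only [op_comp, Functor.map_comp_apply, ht₂]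
        rw [← Functor.map_comp_apply, ← op_comp, lift_fst]
  have heqv : AlgSp.IsEqvRel s t := by
    refine ⟨fun T r r' h h' => CartesianMonoidalCategory.hom_ext _ _ h' ?_, fun T => ⟨?_, ?_, ?_⟩⟩
    · rw [← ht₁, ← Category.assoc, h, Category.assoc]
    · exact fun a => (hrel a a).mpr rfl
    · exact fun h => (hrel _ _).mpr ((hrel _ _).mp h).symm
    · exact fun h h' => (hrel _ _).mpr (((hrel _ _).mp h).trans ((hrel _ _).mp h'))
  haveI hse : Etale s.left := inferInstanceAs (Etale (pullback.fst Z'.hom W'.hom))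
  haveI hte : Etale t.left := by
    haveI : Etale (t.left ≫ z.left) := by
      rw [← Over.comp_left, ht₁]
      exact inferInstanceAs (Etale (pullback.snd Z'.hom W'.hom))
    exact Etale.of_comp t.left z.left
  have hcl : IsClosedImmersion (prod.lift t s).left := by
    let c : Z' ⊗ Z' ≅ Z' ⨯ Z' :=
      ⟨prod.lift (fst _ _) (snd _ _), lift prod.fst prod.snd,
        CartesianMonoidalCategory.hom_ext _ _ (by simp) (by simp),
        prod.hom_ext (by simp) (by simp)⟩
    have e : prod.lift t s = lift t s ≫ c.hom := prod.hom_ext (by simp [c]) (by simp [c])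
    let g : Z' ⊗ Z' ⟶ R := lift (snd Z' Z') (fst Z' Z' ≫ z)
    have hg : lift t s ≫ g = 𝟙 R := by
      rw [comp_lift, lift_snd, lift_fst_assoc, ht₁]
      exact lift_fst_snd
    haveI : IsSeparated ((Z' ⊗ Z').hom) :=
      inferInstanceAs (IsSeparated (pullback.fst Z'.hom Z'.hom ≫ Z'.hom))
    haveI : IsSeparated g.left := by
      haveI : IsSeparated (g.left ≫ R.hom) := by rw [Over.w g]; infer_instance
      exact IsSeparated.of_comp g.left R.hom
    haveI : IsClosedImmersion ((lift t s).left ≫ g.left) := by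
      rw [← Over.comp_left, hg]; exact inferInstanceAs (IsClosedImmersion (𝟙 R.left))
    haveI : IsClosedImmersion (lift t s).left := IsClosedImmersion.of_comp (lift t s).left g.left
    haveI : IsIso c.hom.left := ((Over.forget S).mapIso c).isIso_hom
    rw [e, Over.comp_left]
    infer_instance
  obtain ⟨U, π, hUsep, hUet, hπs, hπe, hpb⟩ := EtEff48.exists_etale_quotient s t ⟨heqv, hse, hte⟩ hcl
  haveI := hπs
  haveI := hπe
  have hπ : ∀ {T : Over S} (a b : T ⟶ Z'), a ≫ π = b ≫ π ↔ F.map a.op el = F.map b.op el := by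
    intro T a b
    rw [← hrel a b]
    constructor
    · intro h
      exact ⟨hpb.lift a b h, hpb.lift_fst _ _ _, hpb.lift_snd _ _ _⟩
    · rintro ⟨r, rfl, rfl⟩
      rw [Category.assoc, Category.assoc, hpb.w]
  have hFs : ∀ {A B : Over S} (p : A ⟶ B) [Flat p.left] [LocallyOfFinitePresentation p.left] [Surjective p.left],
      (Presieve.singleton p).IsSheafFor F := fun p _ _ _ =>
    (Presieve.isSheafFor_iff_generate _).mpr (hF _ (singleton_mem p))
  obtain ⟨e₀, he₀, -⟩ := Presieve.isSheafFor_singleton.mp (hFs π) el fun {T} p₁ p₂ h => (hπ p₁ p₂).mp h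
  refine ⟨U, e₀, hUsep, hUet, ?_, fun T φ hT => ?_⟩
  · rintro _ ⟨y, rfl⟩
    obtain ⟨x, rfl⟩ := π.left.surjective y
    refine ⟨z.left x, ?_⟩
    rw [← Scheme.Hom.comp_apply, ← Scheme.Hom.comp_apply, Over.w π, hzw]
  let P : Over S := T ⊗ W'
  let p : P ⟶ T := fst T W'
  haveI : Etale p.left := inferInstanceAs (Etale (pullback.fst T.hom W'.hom))
  haveI : Surjective p.left := ⟨fun y => by
    obtain ⟨x, hx⟩ := hT ⟨y, rfl⟩
    obtain ⟨a, ha, -⟩ := Scheme.Pullback.exists_preimage_pullback (f := T.hom) (g := W'.hom) y x hx.symm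
    exact ⟨a, ha⟩⟩
  obtain ⟨w₀, ⟨-, hw₀⟩, -⟩ := huniv P (snd T W') (F.map p.op φ)
  have hy : Presieve.IsSheaf (QuotSh.J Scheme.fppfPrecoverage S) (yoneda.obj U) :=
    GrothendieckTopology.Subcanonical.isSheaf_of_isRepresentable _
  obtain ⟨w, hw, -⟩ := Presieve.isSheafFor_singleton.mp
    ((Presieve.isSheafFor_iff_generate _).mpr (hy _ (singleton_mem p))) (w₀ ≫ π) fun {T'} p₁ p₂ h => by
      show p₁ ≫ w₀ ≫ π = p₂ ≫ w₀ ≫ π
      rw [← Category.assoc, ← Category.assoc, hπ]
      simp only [op_comp, Functor.map_comp_apply, hw₀]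
      rw [← Functor.map_comp_apply, ← op_comp, h, op_comp, Functor.map_comp_apply]
  replace hw : p ≫ w = w₀ ≫ π := hw
  have hwφ : F.map w.op e₀ = φ := (hFs p).isSeparatedFor.ext fun _ _ hk => by
    cases hk
    rw [← Functor.map_comp_apply, ← op_comp, hw, op_comp, Functor.map_comp_apply, he₀, hw₀]
  refine ⟨w, hwφ, fun w' hw' => ?_⟩
  let T₁ : Over S := Over.mk (pullback.fst w'.left π.left ≫ T.hom)
  let k₁ : T₁ ⟶ T := Over.homMk (pullback.fst w'.left π.left) rfl
  let a : T₁ ⟶ Z' := Over.homMk (pullback.snd w'.left π.left) (by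
    show _ ≫ Z'.hom = pullback.fst w'.left π.left ≫ T.hom
    rw [← Over.w π, ← pullback.condition_assoc, Over.w w'])
  have ha : k₁ ≫ w' = a ≫ π := Over.OverMorphism.ext pullback.condition
  let T₂ : Over S := Over.mk (pullback.fst (k₁ ≫ w).left π.left ≫ T₁.hom)
  let k₂ : T₂ ⟶ T₁ := Over.homMk (pullback.fst (k₁ ≫ w).left π.left) rfl
  let b : T₂ ⟶ Z' := Over.homMk (pullback.snd (k₁ ≫ w).left π.left) (by
    show _ ≫ Z'.hom = pullback.fst (k₁ ≫ w).left π.left ≫ T₁.hom
    rw [← Over.w π, ← pullback.condition_assoc, Over.w (k₁ ≫ w)])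
  have hb : k₂ ≫ k₁ ≫ w = b ≫ π := Over.OverMorphism.ext pullback.condition
  haveI : Etale k₁.left := inferInstanceAs (Etale (pullback.fst w'.left π.left))
  haveI : Surjective k₁.left := inferInstanceAs (Surjective (pullback.fst w'.left π.left))
  haveI : Etale k₂.left := inferInstanceAs (Etale (pullback.fst (k₁ ≫ w).left π.left))
  haveI : Surjective k₂.left := inferInstanceAs (Surjective (pullback.fst (k₁ ≫ w).left π.left))
  refine MiscTwoH99.AffSheafDesc.hom_ext k₁ (MiscTwoH99.AffSheafDesc.hom_ext k₂ ?_)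
  rw [hb, ha, ← Category.assoc, hπ, ← he₀, ← Functor.map_comp_apply, ← Functor.map_comp_apply, ← op_comp, ← op_comp,
    Category.assoc, ← ha, ← hb]
  simp only [op_comp, Functor.map_comp_apply, hw', hwφ]

end Groth.Agent.HomRep18
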