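import Groth.Agent.HomRep18.RepBC
import Groth.Agent.HomRep18.HomSheaf

/-!
# Families of homomorphisms over a base change, read over the old base
-/

set_option autoImplicit false
set_option backward.isDefEq.respectTransparency false
set_option linter.style.haveILetI false

universe u

open CategoryTheory CategoryTheory.Limits MonoidalCategory CartesianMonoidalCategory MonObj Opposite AlgebraicGeometry
open Groth.Agent.DSPtsLib (theta theta_comp theta_mul theta_bijective)

namespace Groth.Agent.HomRep18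

variable {S S' : Scheme.{u}} (f : S' ⟶ S)

/-- A morphism to an object over the new base makes the source one. -/
noncomputable def src {Y : Over S} {T₀ : Over S'} (t : Y ⟶ (Over.map f).obj T₀) : Over S' :=
  Over.mk (t.left ≫ T₀.hom)

noncomputable def srcIso {Y : Over S} {T₀ : Over S'} (t : Y ⟶ (Over.map f).obj T₀) :
    (Over.map f).obj (src f t) ≅ Y :=
  Over.isoMk (Iso.refl _) ((Category.id_comp _).trans ((Over.w t).symm.trans (Category.assoc _ _ _).symm))

noncomputable def srcHom {Y : Over S} {T₀ : Over S'} (t : Y ⟶ (Over.map f).obj T₀) : src f t ⟶ T₀ :=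
  Over.homMk t.left rfl

theorem map_srcHom {Y : Over S} {T₀ : Over S'} (t : Y ⟶ (Over.map f).obj T₀) :
    (Over.map f).map (srcHom f t) = (srcIso f t).hom ≫ t :=
  Over.OverMorphism.ext (Category.id_comp _).symm

/-- The comparison of products. -/
noncomputable def cmp (H : Over S) (T₀ : Over S') :
    (Over.map f).obj (Red.bc f H ⊗ T₀) ⟶ H ⊗ (Over.map f).obj T₀ :=
  lift (theta f (fst (Red.bc f H) T₀)) ((Over.map f).map (snd (Red.bc f H) T₀))

theorem map_lift_cmp {H : Over S} {T₀ X : Over S'} (g : X ⟶ Red.bc f H) (t : X ⟶ T₀) :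
    (Over.map f).map (lift g t) ≫ cmp f H T₀ = lift (theta f g) ((Over.map f).map t) := by
  rw [cmp, comp_lift, ← theta_comp, lift_fst, ← Functor.map_comp, lift_snd]

instance isIso_cmp (H : Over S) (T₀ : Over S') : IsIso (cmp f H T₀) := by
  let s := snd H ((Over.map f).obj T₀)
  let d := srcIso f s
  obtain ⟨g₀, hg₀⟩ := (theta_bijective (H := H) f).2 (d.hom ≫ fst H _)
  let m : src f s ⟶ Red.bc f H ⊗ T₀ := lift g₀ (srcHom f s)
  have hm : (Over.map f).map m ≫ cmp f H T₀ = d.hom := by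
    rw [map_lift_cmp, hg₀, map_srcHom]
    exact (comp_lift _ _ _).symm.trans (by rw [lift_fst_snd, Category.comp_id])
  let k : Red.bc f H ⊗ T₀ ⟶ src f s := Over.homMk (cmp f H T₀).left (by
    show (cmp f H T₀).left ≫ s.left ≫ T₀.hom = _
    have hs : cmp f H T₀ ≫ s = (Over.map f).map (snd (Red.bc f H) T₀) := lift_snd _ _
    rw [← Category.assoc, ← Over.comp_left, hs]
    exact Over.w (snd (Red.bc f H) T₀))
  have hk : (Over.map f).map k ≫ d.hom = cmp f H T₀ := Over.OverMorphism.ext (Category.comp_id _)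
  refine ⟨d.inv ≫ (Over.map f).map m, ?_, by rw [Category.assoc, hm, d.inv_hom_id]⟩
  have hk' : cmp f H T₀ ≫ d.inv = (Over.map f).map k := by rw [← hk, Category.assoc, d.hom_inv_id, Category.comp_id]
  rw [← Category.assoc, hk', ← Functor.map_comp, show k ≫ m = 𝟙 _ from ?_, CategoryTheory.Functor.map_id]
  refine CartesianMonoidalCategory.hom_ext _ _ ?_ ?_
  · refine (theta_bijective (H := H) f).1 ?_
    rw [Category.assoc, lift_fst, Category.id_comp, theta_comp, hg₀, reassoc_of% hk]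
    exact lift_fst _ _
  · rw [Category.assoc, lift_snd, Category.id_comp]
    have h2 := congrArg Over.Hom.left (lift_snd (theta f (fst (Red.bc f H) T₀))
      ((Over.map f).map (snd (Red.bc f H) T₀)))
    exact Over.OverMorphism.ext h2

variable {H G : Over S} [GrpObj H] [GrpObj G]

/-- A family over the new base, as a family over the old one. -/
theorem exists_family_map {T₀ : Over S'} (φ' : Red.bc f H ⊗ T₀ ⟶ Red.bc f G)
    (hφ' : AutFam.IsHomFamily (Red.bc f H) (Red.bc f G) φ') :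
    ∃ φ : H ⊗ (Over.map f).obj T₀ ⟶ G, AutFam.IsHomFamily H G φ ∧ cmp f H T₀ ≫ φ = theta f φ' := by
  let φ : H ⊗ (Over.map f).obj T₀ ⟶ G := inv (cmp f H T₀) ≫ theta f φ'
  have hφ : cmp f H T₀ ≫ φ = theta f φ' := IsIso.hom_inv_id_assoc _ _
  refine ⟨φ, fun Y y₁ y₂ t => ?_, hφ⟩
  let d := srcIso f t
  obtain ⟨z₁, hz₁⟩ := (theta_bijective (H := H) f).2 (d.hom ≫ y₁)
  obtain ⟨z₂, hz₂⟩ := (theta_bijective (H := H) f).2 (d.hom ≫ y₂)
  have key : ∀ (z : src f t ⟶ Red.bc f H), theta f (lift z (srcHom f t) ≫ φ') =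
      lift (theta f z) (d.hom ≫ t) ≫ φ := fun z => by
    rw [theta_comp, ← hφ, ← Category.assoc, map_lift_cmp, map_srcHom]
  have h2 := congrArg (theta f) (hφ' (src f t) z₁ z₂ (srcHom f t))
  rw [theta_mul, key, key, key, theta_mul, hz₁, hz₂, ← MonObj.comp_mul, ← comp_lift, ← comp_lift, ← comp_lift,
    Category.assoc, Category.assoc, Category.assoc, ← MonObj.comp_mul, cancel_epi] at h2
  exact h2

/-- A family over the old base, as a family over the new one. -/
theorem exists_family_bc {T₀ : Over S'} (φ : H ⊗ (Over.map f).obj T₀ ⟶ G) (hφ : AutFam.IsHomFamily H G φ) :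
    ∃ φ' : Red.bc f H ⊗ T₀ ⟶ Red.bc f G, AutFam.IsHomFamily (Red.bc f H) (Red.bc f G) φ' ∧
      cmp f H T₀ ≫ φ = theta f φ' := by
  obtain ⟨φ', hφ'⟩ := (theta_bijective (H := G) f).2 (cmp f H T₀ ≫ φ)
  refine ⟨φ', fun X g₁ g₂ t => (theta_bijective (H := G) f).1 ?_, hφ'.symm⟩
  simp only [theta_comp, theta_mul, hφ', ← Category.assoc, map_lift_cmp]
  exact hφ _ _ _ _

/-- A scheme of homomorphisms over the new base, read over the old base. -/
theorem exists_univ_map {A : Over S'} {υ : Red.bc f H ⊗ A ⟶ Red.bc f G}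
    (h : AutFam.RepresentsHom (Red.bc f H) (Red.bc f G) A υ) :
    ∃ el : (homFun H G).obj (op ((Over.map f).obj A)),
      ∀ (T : Over S) (x : T ⟶ Over.mk f) (φ : (homFun H G).obj (op T)), ∃! w : T ⟶ (Over.map f).obj A,
        w ≫ (Over.homMk A.hom rfl : (Over.map f).obj A ⟶ Over.mk f) = x ∧ (homFun H G).map w.op el = φ := by
  obtain ⟨e, he, hec⟩ := exists_family_map f υ h.1
  refine ⟨⟨e, he⟩, fun T x φ => ?_⟩
  let T₀ : Over S' := Over.mk x.left
  let i : (Over.map f).obj T₀ ≅ T := Over.isoMk (Iso.refl _) ((Category.id_comp _).trans (Over.w x).symm)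
  obtain ⟨φ', hφ', hφc⟩ := exists_family_bc f ((H ◁ i.hom) ≫ φ.1) (isHomFamily_whisker φ.2 i.hom)
  obtain ⟨a, ha, hau⟩ := h.2 T₀ φ' hφ'
  have hcalc : ∀ b : T₀ ⟶ A, (H ◁ (Over.map f).map b) ≫ e = (H ◁ i.hom) ≫ φ.1 ↔ (Red.bc f H ◁ b) ≫ υ = φ' := by
    intro b
    have hn : cmp f H T₀ ≫ (H ◁ (Over.map f).map b) = (Over.map f).map (Red.bc f H ◁ b) ≫ cmp f H A := by
      rw [cmp, cmp, lift_whiskerLeft, comp_lift, ← theta_comp, whiskerLeft_fst, ← Functor.map_comp, ← Functor.map_comp,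
        whiskerLeft_snd]
    rw [← cancel_epi (cmp f H T₀), hφc, reassoc_of% hn, hec, ← theta_comp, (theta_bijective (H := G) f).1.eq_iff]
  refine ⟨i.inv ≫ (Over.map f).map a, ⟨?_, Subtype.ext ?_⟩, ?_⟩
  · refine Over.OverMorphism.ext ?_
    show (𝟙 T.left ≫ a.left) ≫ A.hom = x.left
    rw [Category.id_comp]
    exact Over.w a
  · show (H ◁ (i.inv ≫ (Over.map f).map a)) ≫ e = φ.1
    rw [MonoidalCategory.whiskerLeft_comp, Category.assoc, (hcalc a).mpr ha,
      ← MonoidalCategory.whiskerLeft_comp_assoc, i.inv_hom_id, MonoidalCategory.whiskerLeft_id, Category.id_comp]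
  · rintro w ⟨hw1, hw2⟩
    let b : T₀ ⟶ A := Over.homMk w.left (congrArg Over.Hom.left hw1)
    have hb : (Over.map f).map b = i.hom ≫ w := Over.OverMorphism.ext (Category.id_comp _).symm
    rw [← hau b ((hcalc b).mp ?_), hb, Iso.inv_hom_id_assoc]
    rw [hb, MonoidalCategory.whiskerLeft_comp, Category.assoc]
    exact congrArg ((H ◁ i.hom) ≫ ·) (congrArg Subtype.val hw2)

/-- Two schemes of homomorphisms are isomorphic. -/
theorem nonempty_iso_of_representsHom {A A' : Over S} {υ : H ⊗ A ⟶ G} {υ' : H ⊗ A' ⟶ G}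
    (h : AutFam.RepresentsHom H G A υ) (h' : AutFam.RepresentsHom H G A' υ') : Nonempty (A ≅ A') := by
  obtain ⟨a, ha, -⟩ := h'.2 A υ h.1
  obtain ⟨b, hb, -⟩ := h.2 A' υ' h'.1
  refine ⟨⟨a, b, (h.2 A υ h.1).unique ?_ ?_, (h'.2 A' υ' h'.1).unique ?_ ?_⟩⟩
  · show (H ◁ (a ≫ b)) ≫ υ = υ
    rw [MonoidalCategory.whiskerLeft_comp, Category.assoc, hb, ha]
  · show (H ◁ 𝟙 A) ≫ υ = υ
    rw [MonoidalCategory.whiskerLeft_id, Category.id_comp]
  · show (H ◁ (b ≫ a)) ≫ υ' = υ'
    rw [MonoidalCategory.whiskerLeft_comp, Category.assoc, ha, hb]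
  · show (H ◁ 𝟙 A') ≫ υ' = υ'
    rw [MonoidalCategory.whiskerLeft_id, Category.id_comp]

end Groth.Agent.HomRep18
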