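import Groth.Agent.DSPtsLib.Basic
import Groth.Prelude.Def_AutFam

/-!
# Schemes of homomorphisms commute with base change and isomorphisms
-/

universe u

open CategoryTheory CategoryTheory.Limits MonoidalCategory CartesianMonoidalCategory MonObj AlgebraicGeometry
open Groth.Agent.DSPtsLib (theta)

set_option backward.isDefEq.respectTransparency false

namespace Groth.Agent.HomRep18

variable {S S' : Scheme.{u}} (f : S' ⟶ S)

theorem theta_comp_map' {X : Over S'} {H G : Over S} (a : X ⟶ Red.bc f H) (v : H ⟶ G) :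
    theta f (a ≫ (Over.pullback f).map v) = theta f a ≫ v :=
  (Over.mapPullbackAdj f).homEquiv_naturality_right_symm a v

set_option maxHeartbeats 800000 in
/-- The base change of a scheme of homomorphisms is a scheme of homomorphisms, by the base change of the family. -/
theorem representsHom_bc_ev {G H A : Over S} [GrpObj G] [GrpObj H] {υ : G ⊗ A ⟶ H}
    (h : AutFam.RepresentsHom G H A υ) :
    ∃ υ' : Red.bc f G ⊗ Red.bc f A ⟶ Red.bc f H, AutFam.RepresentsHom (Red.bc f G) (Red.bc f H) (Red.bc f A) υ' ∧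
      ∀ {X : Over S'} (g : X ⟶ Red.bc f G) (a : X ⟶ Red.bc f A),
        theta f (lift g a ≫ υ') = lift (theta f g) (theta f a) ≫ υ := by
  obtain ⟨υ', hυ'⟩ := (DSPtsLib.theta_bijective (H := H) f).2
    (lift (theta f (fst (Red.bc f G) (Red.bc f A))) (theta f (snd (Red.bc f G) (Red.bc f A))) ≫ υ)
  have hev : ∀ {X : Over S'} (g : X ⟶ Red.bc f G) (a : X ⟶ Red.bc f A),
      theta f (lift g a ≫ υ') = lift (theta f g) (theta f a) ≫ υ := fun g a => by
    rw [DSPtsLib.theta_comp, hυ', ← Category.assoc, comp_lift, ← DSPtsLib.theta_comp, ← DSPtsLib.theta_comp,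
      lift_fst, lift_snd]
  refine ⟨υ', ⟨fun X g₁ g₂ a => (DSPtsLib.theta_bijective (H := H) f).1 ?_, fun T φ hφ => ?_⟩, hev⟩
  · rw [hev, DSPtsLib.theta_mul, h.1, DSPtsLib.theta_mul, hev, hev]
  · -- the family over the old base
    let T₀ : Over S := (Over.map f).obj T
    let s₂ : (G ⊗ T₀).left ⟶ T.left := (snd G T₀).left
    let X₀ : Over S' := Over.mk (s₂ ≫ T.hom)
    have hw : (s₂ ≫ T.hom) ≫ f = (G ⊗ T₀).hom := (Category.assoc _ _ _).trans (Over.w (snd G T₀))
    let e : G ⊗ T₀ ⟶ (Over.map f).obj X₀ := Over.homMk (𝟙 _) ((Category.id_comp _).trans hw)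
    let e' : (Over.map f).obj X₀ ⟶ G ⊗ T₀ := Over.homMk (𝟙 _) ((Category.id_comp _).trans hw.symm)
    let t₀ : X₀ ⟶ T := Over.homMk s₂ rfl
    have ht₀ : (Over.map f).map t₀ = e' ≫ snd G T₀ := Over.OverMorphism.ext (Category.id_comp _).symm
    obtain ⟨g₀, hg₀⟩ := (DSPtsLib.theta_bijective (H := G) f).2 (e' ≫ fst G T₀)
    have hee : e ≫ e' = 𝟙 _ := Over.OverMorphism.ext (Category.id_comp _)
    have hee' : e' ≫ e = 𝟙 _ := Over.OverMorphism.ext (Category.id_comp _)
    let φ₀ : G ⊗ T₀ ⟶ H := e ≫ theta f (lift g₀ t₀ ≫ φ)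
    have key : ∀ {X : Over S'} (g : X ⟶ Red.bc f G) (t : X ⟶ T),
        lift (theta f g) ((Over.map f).map t) ≫ φ₀ = theta f (lift g t ≫ φ) := by
      intro X g t
      let l : (Over.map f).obj X ⟶ G ⊗ T₀ := lift (theta f g) ((Over.map f).map t)
      have hls : l.left ≫ s₂ = t.left := congrArg Over.Hom.left (lift_snd (theta f g) ((Over.map f).map t))
      let m : X ⟶ X₀ := Over.homMk l.left (by
        show l.left ≫ s₂ ≫ T.hom = X.hom
        rw [reassoc_of% hls, Over.w t])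
      have hm : (Over.map f).map m = l ≫ e := Over.OverMorphism.ext (Category.comp_id _).symm
      have hme : (Over.map f).map m ≫ e' = l := by rw [hm, Category.assoc, hee, Category.comp_id]
      have hmt : m ≫ t₀ = t := Over.OverMorphism.ext hls
      have hmg : m ≫ g₀ = g := (DSPtsLib.theta_bijective (H := G) f).1 (by
        rw [DSPtsLib.theta_comp, hg₀, reassoc_of% hme]
        exact lift_fst _ _)
      show l ≫ e ≫ _ = _
      rw [← Category.assoc, ← hm, ← DSPtsLib.theta_comp, ← Category.assoc, comp_lift, hmg, hmt]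
    have hφ₀ : AutFam.IsHomFamily G H φ₀ := by
      intro Y y₁ y₂ t
      let Y' : Over S' := Over.mk (t.left ≫ T.hom)
      have hY : (t.left ≫ T.hom) ≫ f = Y.hom := (Category.assoc _ _ _).trans (Over.w t)
      let d : Y ⟶ (Over.map f).obj Y' := Over.homMk (𝟙 _) ((Category.id_comp _).trans hY)
      let d' : (Over.map f).obj Y' ⟶ Y := Over.homMk (𝟙 _) ((Category.id_comp _).trans hY.symm)
      have hdd : d ≫ d' = 𝟙 _ := Over.OverMorphism.ext (Category.id_comp _)
      let t' : Y' ⟶ T := Over.homMk t.left rfl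
      have ht' : (Over.map f).map t' = d' ≫ t := Over.OverMorphism.ext (Category.id_comp _).symm
      obtain ⟨z₁, hz₁⟩ := (DSPtsLib.theta_bijective (H := G) f).2 (d' ≫ y₁)
      obtain ⟨z₂, hz₂⟩ := (DSPtsLib.theta_bijective (H := G) f).2 (d' ≫ y₂)
      have h2 := congrArg (fun q => d ≫ theta f q) (hφ Y' z₁ z₂ t')
      simp only [DSPtsLib.theta_mul, ← key, hz₁, hz₂, ht', ← MonObj.comp_mul, ← comp_lift, Category.assoc] at h2
      simp only [MonObj.comp_mul, reassoc_of% hdd] at h2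
      exact h2
    obtain ⟨a₀, ha₀, hau⟩ := h.2 T₀ φ₀ hφ₀
    obtain ⟨a, rfl⟩ := (DSPtsLib.theta_bijective (H := A) f).2 a₀
    refine ⟨a, (DSPtsLib.theta_bijective (H := H) f).1 ?_, fun b hb => (DSPtsLib.theta_bijective (H := A) f).1 (hau _ ?_)⟩
    · have h1 := key (fst (Red.bc f G) T) (snd (Red.bc f G) T)
      rw [lift_fst_snd, Category.id_comp, ← ha₀, lift_whiskerLeft_assoc, ← DSPtsLib.theta_comp, ← hev] at h1
      rw [← h1]
      congr 2
    · show (G ◁ theta f b) ≫ υ = φ₀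
      haveI : IsIso e' := ⟨e, hee', hee⟩
      rw [← cancel_epi e', show e' ≫ φ₀ = theta f (lift g₀ t₀ ≫ φ) by
        show e' ≫ e ≫ _ = _
        rw [reassoc_of% hee'], ← hb, lift_whiskerLeft_assoc, hev, DSPtsLib.theta_comp, hg₀, ht₀,
        ← lift_whiskerLeft_assoc, ← comp_lift, lift_fst_snd, Category.comp_id]

/-- The base change of a scheme of homomorphisms is a scheme of homomorphisms. -/
theorem representsHom_bc {G H A : Over S} [GrpObj G] [GrpObj H] {υ : G ⊗ A ⟶ H}
    (h : AutFam.RepresentsHom G H A υ) :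
    ∃ υ' : Red.bc f G ⊗ Red.bc f A ⟶ Red.bc f H, AutFam.RepresentsHom (Red.bc f G) (Red.bc f H) (Red.bc f A) υ' :=
  let ⟨υ', h', _⟩ := representsHom_bc_ev f h
  ⟨υ', h'⟩

/-- Transport of a scheme of homomorphisms along isomorphisms of groups, with the family transported. -/
theorem representsHom_iso_ev {G H G' H' A : Over S} [GrpObj G] [GrpObj H] [GrpObj G'] [GrpObj H'] {υ : G ⊗ A ⟶ H}
    (h : AutFam.RepresentsHom G H A υ) (eG : Grp.mk G' ≅ Grp.mk G) (eH : Grp.mk H' ≅ Grp.mk H) :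
    AutFam.RepresentsHom G' H' A ((eG.hom.hom.hom ▷ A) ≫ υ ≫ eH.inv.hom.hom) := by
  have g1 : eG.hom.hom.hom ≫ eG.inv.hom.hom = 𝟙 _ := congrArg (fun m => m.hom.hom) eG.hom_inv_id
  have g2 : eG.inv.hom.hom ≫ eG.hom.hom.hom = 𝟙 _ := congrArg (fun m => m.hom.hom) eG.inv_hom_id
  have k1 : eH.hom.hom.hom ≫ eH.inv.hom.hom = 𝟙 _ := congrArg (fun m => m.hom.hom) eH.hom_inv_id
  have k2 : eH.inv.hom.hom ≫ eH.hom.hom.hom = 𝟙 _ := congrArg (fun m => m.hom.hom) eH.inv_hom_id
  haveI : IsMonHom eG.hom.hom.hom := eG.hom.hom.isMonHom_hom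
  haveI : IsMonHom eG.inv.hom.hom := eG.inv.hom.isMonHom_hom
  haveI : IsMonHom eH.hom.hom.hom := eH.hom.hom.isMonHom_hom
  haveI : IsMonHom eH.inv.hom.hom := eH.inv.hom.isMonHom_hom
  refine ⟨fun X g₁ g₂ t => ?_, fun T φ hφ => ?_⟩
  · simp only [lift_whiskerRight_assoc, MonObj.mul_comp]
    rw [← Category.assoc, h.1, MonObj.mul_comp, Category.assoc, Category.assoc]
  · obtain ⟨a, ha, hau⟩ := h.2 T ((eG.inv.hom.hom ▷ T) ≫ φ ≫ eH.hom.hom.hom) (fun X g₁ g₂ t => by
      simp only [lift_whiskerRight_assoc, MonObj.mul_comp]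
      rw [← Category.assoc, hφ, MonObj.mul_comp, Category.assoc, Category.assoc])
    refine ⟨a, ?_, fun b hb => hau b ?_⟩
    · show (G' ◁ a) ≫ (eG.hom.hom.hom ▷ A) ≫ υ ≫ eH.inv.hom.hom = φ
      rw [whisker_exchange_assoc, reassoc_of% ha, k1, Category.comp_id,
        ← MonoidalCategory.comp_whiskerRight_assoc, g1, MonoidalCategory.id_whiskerRight, Category.id_comp]
    · show (G ◁ b) ≫ υ = _
      rw [← hb]
      simp only [Category.assoc]
      rw [← whisker_exchange_assoc, ← MonoidalCategory.comp_whiskerRight_assoc, k2, Category.comp_id, g2,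
        MonoidalCategory.id_whiskerRight, Category.id_comp]

/-- Transport of a scheme of homomorphisms along isomorphisms of groups. -/
theorem representsHom_iso {G H G' H' A : Over S} [GrpObj G] [GrpObj H] [GrpObj G'] [GrpObj H'] {υ : G ⊗ A ⟶ H}
    (h : AutFam.RepresentsHom G H A υ) (eG : Grp.mk G' ≅ Grp.mk G) (eH : Grp.mk H' ≅ Grp.mk H) :
    ∃ υ' : G' ⊗ A ⟶ H', AutFam.RepresentsHom G' H' A υ' :=
  ⟨_, representsHom_iso_ev h eG eH⟩

end Groth.Agent.HomRep18
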