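import Groth.Agent.HomRep18.SplitHom
import Groth.Agent.HomRep18.RepBC
import Groth.Agent.MultCentral18.Split
import Groth.Agent.EtFound.Descent

/-!
# The scheme of homomorphisms between finite groups of multiplicative type is finite etale
-/

universe u

open CategoryTheory CategoryTheory.Limits MonoidalCategory CartesianMonoidalCategory MonObj AlgebraicGeometry
open Groth.Agent.GrpSchLib.AffineHopf

set_option backward.isDefEq.respectTransparency false
set_option linter.style.haveILetI false
set_option synthInstance.maxHeartbeats 400000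
set_option maxHeartbeats 1000000

namespace Groth.Agent.HomRep18

theorem finite_of_isFinite {R : Type u} [CommRing R] [Nontrivial R] {M : Type u} [CommGroup M]
    (h : IsFinite (sp R (MonoidAlgebra R M)).hom) : Finite M := by
  have hf : (algebraMap R (MonoidAlgebra R M)).Finite :=
    (IsFinite.SpecMap_iff (CommRingCat.ofHom (algebraMap R (MonoidAlgebra R M)))).mp h
  haveI : Module.Finite R (MonoidAlgebra R M) := RingHom.finite_algebraMap.mp hf
  exact Module.Finite.finite_basis (MonoidAlgebra.basis M R)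

theorem isFinite_of_iso {S : Scheme.{u}} {A B : Over S} [GrpObj A] [GrpObj B] (e : Grp.mk A ≅ Grp.mk B)
    [IsFinite B.hom] : IsFinite A.hom := by
  haveI : IsIso e.hom.hom.hom.left :=
    ⟨e.inv.hom.hom.left, congrArg (fun h => h.hom.hom.left) e.hom_inv_id,
      congrArg (fun h => h.hom.hom.left) e.inv_hom_id⟩
  rw [show A.hom = e.hom.hom.hom.left ≫ B.hom from (Over.w e.hom.hom.hom).symm]
  infer_instance

/-- Hom between finite groups of multiplicative type is finite etale. -/
theorem isFinite_etale {S : Scheme.{u}} {G H A : Over S} [GrpObj G] [GrpObj H] (hG : SGA3x.IsMultTypeFT G)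
    [IsFinite G.hom] (hH : SGA3x.IsMultTypeFT H) [IsFinite H.hom] [IsAffineHom A.hom] {υ : G ⊗ A ⟶ H}
    (h : AutFam.RepresentsHom G H A υ) : IsFinite A.hom ∧ Etale A.hom := by
  have key : ∀ (P : MorphismProperty Scheme.{u}) [P.IsStableUnderBaseChange] [IsZariskiLocalAtTarget P]
      [P.DescendsAlong (@Surjective ⊓ @Flat ⊓ @QuasiCompact)],
      (∀ {R : Type u} [CommRing R] (β : Spec (CommRingCat.of R) ⟶ S),
        IsFinite (Red.bc β A).hom ∧ Etale (Red.bc β A).hom → P (pullback.snd A.hom β)) → P A.hom := by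
    intro P _ _ _ hP
    refine IsZariskiLocalAtTarget.of_forall_exists_morphismRestrict fun s => ?_
    obtain ⟨R, _, β, p, M, _, N, _, hβ, hp, -, -, ⟨eG⟩, ⟨eH⟩⟩ := MultCentral18.exists_etale_split₂ G H hG hH s
    haveI := hβ
    haveI : Nontrivial R := nontrivial_of_ne 0 1 fun h01 =>
      p.2.ne_top ((Ideal.eq_top_iff_one _).mpr (h01 ▸ p.asIdeal.zero_mem))
    haveI : IsFinite (Red.bc β G).hom := inferInstanceAs (IsFinite (pullback.snd G.hom β))
    haveI : IsFinite (Red.bc β H).hom := inferInstanceAs (IsFinite (pullback.snd H.hom β))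
    haveI : IsAffineHom (Red.bc β A).hom := inferInstanceAs (IsAffineHom (pullback.snd A.hom β))
    haveI := finite_of_isFinite (isFinite_of_iso eG)
    haveI := finite_of_isFinite (isFinite_of_iso eH)
    obtain ⟨υ', h'⟩ := representsHom_bc β h
    obtain ⟨υ'', h''⟩ := representsHom_iso h' eG eH
    have hloc := hP β (isFinite_etale_of_rep (Red.bc β A) υ'' h'')
    let U : S.Opens := ⟨Set.range β.base, β.isOpenMap.isOpen_range⟩
    refine ⟨U, ⟨p, hp⟩, ?_⟩
    let l : Spec (CommRingCat.of R) ⟶ U := IsOpenImmersion.lift U.ι β (by rw [Scheme.Opens.range_ι]; rfl)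
    have hl : l ≫ U.ι = β := IsOpenImmersion.lift_fac _ _ _
    haveI : Etale (l ≫ U.ι) := hl ▸ hβ
    haveI : Etale l := MorphismProperty.of_postcomp (W := @Etale) (W' := @Etale) l U.ι
      (inferInstanceAs (Etale U.ι)) inferInstance
    haveI : Surjective l := ⟨fun y => by
      obtain ⟨x, hx⟩ := y.2
      refine ⟨x, Subtype.ext ?_⟩
      show U.ι.base (l.base x) = y.1
      rw [← hx, ← hl]
      rfl⟩
    have H1 : IsPullback (pullback.snd A.hom β) (pullback.fst A.hom β) β A.hom :=
      (IsPullback.of_hasPullback A.hom β).flip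
    have H2 : IsPullback (A.hom ∣_ U) (A.hom ⁻¹ᵁ U).ι U.ι A.hom := isPullback_morphismRestrict A.hom U
    let g : pullback A.hom β ⟶ (A.hom ⁻¹ᵁ U).toScheme :=
      H2.lift (pullback.snd A.hom β ≫ l) (pullback.fst A.hom β) (by rw [Category.assoc, hl, pullback.condition])
    have H3 : IsPullback (pullback.snd A.hom β) g l (A.hom ∣_ U) := by
      refine IsPullback.of_bot ?_ (H2.lift_fst _ _ _).symm H2
      rw [hl]
      simp only [g, IsPullback.lift_snd]
      exact H1
    exact (FpqcDescLib.covers_of_isCovering (FpqcDescLib.isCovering_of_lfp l)).descends P (A.hom ∣_ U) _ g H3 hloc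
  haveI := EtFound.fpqc_isFinite.{u}
  exact ⟨key @IsFinite fun β hq => hq.1, key @Etale fun β hq => hq.2⟩

end Groth.Agent.HomRep18
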