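import Mathlib.RingTheory.Bialgebra.MonoidAlgebra
import Mathlib.Algebra.BigOperators.Ring.Finset
import Mathlib.RingTheory.Idempotents

/-!
# Families of group-like elements of the group algebra of a finite group

A multiplicative family `g n` of group-like elements of `W[M]`, `n ∈ N`, cuts `W` along the homomorphisms `N →* M`.
-/

universe u v

open Finset

set_option maxHeartbeats 800000

namespace Groth.Agent.HomRep18

variable {W : Type u} [CommRing W] {M N : Type u} [CommGroup M] [CommGroup N]

theorem coeff_inl_mul_inr' (x y : MonoidAlgebra W M) (a b : M) :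
    (MonoidAlgebra.mapDomainAlgHom W W (MonoidHom.inl M M) x *
      MonoidAlgebra.mapDomainAlgHom W W (MonoidHom.inr M M) y).coeff (a, b) = x.coeff a * y.coeff b := by
  classical
  induction x using MonoidAlgebra.induction_linear with
  | zero => simp
  | add f g hf hg => simp only [map_add, add_mul, MonoidAlgebra.coeff_add, Finsupp.add_apply, hf, hg]
  | single m r =>
    induction y using MonoidAlgebra.induction_linear with
    | zero => simp
    | add f g hf hg => simp only [map_add, mul_add, MonoidAlgebra.coeff_add, Finsupp.add_apply, hf, hg]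
    | single n s =>
      have h1 : MonoidAlgebra.mapDomainAlgHom W W (MonoidHom.inl M M) (MonoidAlgebra.single m r) =
          MonoidAlgebra.single (m, 1) r := MonoidAlgebra.mapDomain_single
      have h2 : MonoidAlgebra.mapDomainAlgHom W W (MonoidHom.inr M M) (MonoidAlgebra.single n s) =
          MonoidAlgebra.single (1, n) s := MonoidAlgebra.mapDomain_single
      rw [h1, h2, MonoidAlgebra.single_mul_single, Prod.mk_mul_mk, _root_.mul_one, _root_.one_mul,
        MonoidAlgebra.coeff_single, MonoidAlgebra.coeff_single, MonoidAlgebra.coeff_single,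
        Finsupp.single_apply, Finsupp.single_apply, Finsupp.single_apply]
      by_cases h1 : m = a <;> by_cases h2 : n = b <;> simp [h1, h2]

/-- The condition that the element is group-like. -/
def IsGL (z : MonoidAlgebra W M) : Prop :=
  MonoidAlgebra.mapDomainAlgHom W W ((MonoidHom.id M).prod (MonoidHom.id M)) z =
    MonoidAlgebra.mapDomainAlgHom W W (MonoidHom.inl M M) z * MonoidAlgebra.mapDomainAlgHom W W (MonoidHom.inr M M) z

theorem IsGL.idem {z : MonoidAlgebra W M} (h : IsGL z) (a : M) : z.coeff a * z.coeff a = z.coeff a := by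
  rw [← coeff_inl_mul_inr', ← h]
  exact Finsupp.mapDomain_apply (f := ((MonoidHom.id M).prod (MonoidHom.id M))) (fun _ _ e => congrArg Prod.fst e) _ _

theorem IsGL.orth {z : MonoidAlgebra W M} (h : IsGL z) {a b : M} (hab : a ≠ b) : z.coeff a * z.coeff b = 0 := by
  rw [← coeff_inl_mul_inr', ← h]
  exact Finsupp.mapDomain_notin_range (f := ((MonoidHom.id M).prod (MonoidHom.id M))) _ _ (by
    rintro ⟨c, hc⟩
    exact hab ((congrArg Prod.fst hc).symm.trans (congrArg Prod.snd hc)))

theorem IsGL.single_mul {z : MonoidAlgebra W M} (h : IsGL z) (a : M) :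
    MonoidAlgebra.single (1 : M) (z.coeff a) * z = MonoidAlgebra.single a (z.coeff a) := by
  classical
  refine MonoidAlgebra.ext (Finsupp.ext fun b => ?_)
  rw [MonoidAlgebra.coeff_single, Finsupp.single_apply, MonoidAlgebra.coeff_single_one_mul]
  split_ifs with hab
  · rw [← hab, h.idem]
  · exact h.orth hab

variable [Fintype M]

/-- A unit group-like element has total coefficient one. -/
theorem IsGL.sum_eq_one {z : MonoidAlgebra W M} (h : IsGL z) (hu : IsUnit z) : ∑ a, z.coeff a = 1 := by
  classical
  let ε := MonoidAlgebra.lift W W M 1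
  have hε : ∀ y : MonoidAlgebra W M, ε y = ∑ a, y.coeff a := fun y => by
    induction y using MonoidAlgebra.induction_linear with
    | zero => simp
    | add f g hf hg => rw [map_add, hf, hg, ← sum_add_distrib]; simp
    | single m r => simp [ε, MonoidAlgebra.coeff_single, Finsupp.single_apply]
  have hsq : (∑ a, z.coeff a) * ∑ b, z.coeff b = ∑ a, z.coeff a := by
    rw [sum_mul_sum]
    refine sum_congr rfl fun a _ => ?_
    rw [sum_eq_single a (fun b _ hb => h.orth (Ne.symm hb)) (fun ha => (ha (mem_univ a)).elim), h.idem]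
  have := hu.map ε
  rw [hε] at this
  exact this.mul_left_cancel (hsq.trans (_root_.mul_one _).symm)

variable {g : N → MonoidAlgebra W M} (hgl : ∀ n, IsGL (g n)) (hu : ∀ n, IsUnit (g n))
  (hmul : ∀ a b, g (a * b) = g a * g b)

/-- The piece of `W` where the family is given by `φ`. -/
noncomputable def piece [Fintype N] (g : N → MonoidAlgebra W M) (φ : N → M) : W := ∏ n, (g n).coeff (φ n)

include hgl hmul in
theorem piece_eq_zero [Fintype N] {φ : N → M} {a b : N} (h : φ (a * b) ≠ φ a * φ b) : piece g φ = 0 := by
  classical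
  let p := (g a).coeff (φ a)
  let q := (g b).coeff (φ b)
  have hpq : p * q * (g (a * b)).coeff (φ (a * b)) = 0 := by
    rw [← MonoidAlgebra.coeff_single_one_mul (g (a * b)) (p * q) (φ (a * b))]
    rw [hmul, ← _root_.mul_one (1 : M), ← MonoidAlgebra.single_mul_single, mul_mul_mul_comm, (hgl a).single_mul,
      (hgl b).single_mul, MonoidAlgebra.single_mul_single, MonoidAlgebra.coeff_single, Finsupp.single_apply, if_neg (Ne.symm h)]
  have hd : ∀ n, (g n).coeff (φ n) * piece g φ = piece g φ := fun n => by
    rw [piece, ← Finset.mul_prod_erase univ _ (mem_univ n), ← _root_.mul_assoc, (hgl n).idem]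
  calc piece g φ = p * (q * ((g (a * b)).coeff (φ (a * b)) * piece g φ)) := by rw [hd, hd, hd]
    _ = 0 := by rw [← _root_.mul_assoc, ← _root_.mul_assoc, hpq, zero_mul]

include hgl in
theorem piece_idem [Fintype N] (φ : N → M) : piece g φ * piece g φ = piece g φ := by
  rw [piece, ← prod_mul_distrib]
  exact prod_congr rfl fun n _ => (hgl n).idem _

include hgl in
theorem piece_orth [Fintype N] {φ ψ : N → M} (h : φ ≠ ψ) : piece g φ * piece g ψ = 0 := by
  obtain ⟨n, hn⟩ := Function.ne_iff.mp h
  rw [piece, piece, ← prod_mul_distrib]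
  exact prod_eq_zero (mem_univ n) ((hgl n).orth hn)

include hgl hu hmul in
theorem sum_piece [Fintype N] [Fintype (N →* M)] : ∑ φ : N →* M, piece g φ = 1 := by
  classical
  have h1 : ∑ φ : N → M, piece g φ = 1 := by
    show ∑ φ : N → M, ∏ n, (g n).coeff (φ n) = 1
    rw [← Fintype.prod_sum (fun n a => (g n).coeff a)]
    exact prod_eq_one fun n _ => (hgl n).sum_eq_one (hu n)
  rw [← h1]
  refine Finset.sum_bij_ne_zero (fun φ _ _ => (φ : N → M)) (fun φ _ _ => mem_univ _)
    (fun φ _ _ ψ _ _ h => DFunLike.coe_injective h) (fun f _ hf => ?_) (fun φ _ _ => rfl)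
  by_cases hhom : ∀ a b, f (a * b) = f a * f b
  · exact ⟨MonoidHom.mk' f hhom, mem_univ _, hf, rfl⟩
  · push Not at hhom
    obtain ⟨a, b, hab⟩ := hhom
    exact (hf (piece_eq_zero hgl hmul hab)).elim

include hgl hu hmul in
/-- The family is cut out by the pieces. -/
theorem sum_pieces_at [Fintype N] [Fintype (N →* M)] [DecidableEq M] (n : N) (m : M) :
    ∑ φ : N →* M, (if φ n = m then piece g φ else 0) = (g n).coeff m := by
  conv_rhs => rw [← _root_.mul_one ((g n).coeff m), ← sum_piece hgl hu hmul, mul_sum]
  refine sum_congr rfl fun φ _ => ?_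
  have hd : (g n).coeff (φ n) * piece g φ = piece g φ := by
    classical
    rw [piece, ← Finset.mul_prod_erase univ _ (mem_univ n), ← _root_.mul_assoc, (hgl n).idem]
  split_ifs with h
  · rw [← h, hd]
  · rw [← hd, ← _root_.mul_assoc, (hgl n).orth (Ne.symm h), zero_mul]

end Groth.Agent.HomRep18
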