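import Groth.Agent.HomRep18.Mor
import Groth.Agent.AlgSpPts.Sep
import Groth.Prelude.Def_AutFam

/-!
# The scheme of homomorphisms from a finite locally free group to an affine group

The closed subscheme of the scheme of morphisms where the two morphisms to the scheme of morphisms out of the square
agree.
-/

universe u

open CategoryTheory CategoryTheory.Limits MonoidalCategory CartesianMonoidalCategory MonObj GrpObj AlgebraicGeometry

set_option backward.isDefEq.respectTransparency false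

namespace Groth.Agent.HomRep18

variable {S : Scheme.{u}}

/-- The closed subscheme where two morphisms to a separated scheme agree. -/
theorem exists_equalizer {M N : Over S} (a b : M ⟶ N) [IsSeparated N.hom] :
    ∃ (K : Over S) (k : K ⟶ M), IsClosedImmersion k.left ∧
      (LocallyOfFiniteType N.hom → LocallyOfFinitePresentation k.left) ∧ k ≫ a = k ≫ b ∧
      ∀ (Y : Over S) (g : Y ⟶ M), g ≫ a = g ≫ b → ∃! l : Y ⟶ K, l ≫ k = g := by
  let L : M ⟶ N ⊗ N := lift a b
  let Δ : N ⟶ N ⊗ N := lift (𝟙 N) (𝟙 N)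
  haveI hsep : IsSeparated (fst N N).left := inferInstanceAs (IsSeparated (pullback.fst N.hom N.hom))
  have hΔ : Δ.left ≫ (fst N N).left = 𝟙 _ := by rw [← Over.comp_left, lift_fst]; rfl
  haveI : IsClosedImmersion Δ.left := by
    haveI : IsClosedImmersion (Δ.left ≫ (fst N N).left) := by
      rw [hΔ]; exact inferInstanceAs (IsClosedImmersion (𝟙 N.left))
    exact IsClosedImmersion.of_comp Δ.left (fst N N).left
  let K : Over S := Over.mk (pullback.fst L.left Δ.left ≫ M.hom)
  let k : K ⟶ M := Over.homMk (pullback.fst L.left Δ.left) rfl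
  let z : K ⟶ N := Over.homMk (pullback.snd L.left Δ.left) (by
    show pullback.snd L.left Δ.left ≫ N.hom = pullback.fst L.left Δ.left ≫ M.hom
    rw [← Over.w L, pullback.condition_assoc, Over.w Δ])
  have hz : k ≫ L = z ≫ Δ := Over.OverMorphism.ext pullback.condition
  haveI : IsClosedImmersion k.left := inferInstanceAs (IsClosedImmersion (pullback.fst L.left Δ.left))
  refine ⟨K, k, ‹_›, fun hN => ?_, ?_, fun Y g hg => ?_⟩
  · haveI : LocallyOfFiniteType (fst N N).left := inferInstanceAs (LocallyOfFiniteType (pullback.fst N.hom N.hom))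
    haveI : LocallyOfFinitePresentation (Δ.left ≫ (fst N N).left) := by
      rw [hΔ]; exact inferInstanceAs (LocallyOfFinitePresentation (𝟙 N.left))
    haveI := Groth.Agent.AlgSpPts.locallyOfFinitePresentation_of_comp Δ.left (fst N N).left
    exact inferInstanceAs (LocallyOfFinitePresentation (pullback.fst L.left Δ.left))
  · have ha := congrArg (· ≫ fst N N) hz
    have hb := congrArg (· ≫ snd N N) hz
    simp only [L, Δ, Category.assoc, lift_fst, lift_snd, Category.comp_id] at ha hb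
    rw [ha, hb]
  · haveI : Mono k.left := inferInstance
    haveI : Mono k := Over.mono_of_mono_left _
    have hgL : g.left ≫ L.left = (g ≫ a).left ≫ Δ.left := by
      rw [← Over.comp_left, ← Over.comp_left, comp_lift, comp_lift, Category.comp_id, hg]
    refine ⟨Over.homMk (pullback.lift g.left (g ≫ a).left hgL) (by
      show pullback.lift g.left (g ≫ a).left hgL ≫ pullback.fst L.left Δ.left ≫ M.hom = Y.hom
      rw [pullback.lift_fst_assoc, Over.w g]), Over.OverMorphism.ext (pullback.lift_fst _ _ _), fun l hl => ?_⟩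
    rw [← cancel_mono k, hl]
    exact Over.OverMorphism.ext (pullback.lift_fst _ _ _).symm

variable (H G : Over S) [GrpObj H] [GrpObj G]

/-- The scheme of homomorphisms out of a finite locally free group. -/
theorem exists_homRep (hH : Mor2.IsFinLocFree H.hom) [IsAffineHom G.hom] :
    ∃ (A : Over S) (υ : H ⊗ A ⟶ G) (M : Over S) (ω : H ⊗ M ⟶ G) (k : A ⟶ M), AutFam.RepresentsHom H G A υ ∧
      IsMorRep H G ω ∧ IsClosedImmersion k.left ∧ (LocallyOfFinitePresentation G.hom → LocallyOfFinitePresentation A.hom) ∧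
      IsAffineHom M.hom := by
  obtain ⟨_, _, _⟩ := id hH
  have hHH : Mor2.IsFinLocFree (H ⊗ H).hom := by
    haveI : IsFinite (fst H H).left := inferInstanceAs (IsFinite (pullback.fst H.hom H.hom))
    haveI : Flat (fst H H).left := inferInstanceAs (Flat (pullback.fst H.hom H.hom))
    haveI : LocallyOfFinitePresentation (fst H H).left :=
      inferInstanceAs (LocallyOfFinitePresentation (pullback.fst H.hom H.hom))
    rw [Mor2.IsFinLocFree, ← Over.w (fst H H)]
    exact ⟨inferInstance, inferInstance, inferInstance⟩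
  obtain ⟨M, ω, hω, hMa⟩ := exists_morRep H G hH
  obtain ⟨M₂, ω₂, hω₂, hM₂a⟩ := exists_morRep (H ⊗ H) G hHH
  haveI : IsSeparated M₂.hom := inferInstance
  obtain ⟨a, ha, -⟩ := hω₂ M (lift (fst (H ⊗ H) M ≫ μ[H]) (snd (H ⊗ H) M) ≫ ω)
  obtain ⟨b, hb, -⟩ := hω₂ M ((lift (fst (H ⊗ H) M ≫ fst H H) (snd (H ⊗ H) M) ≫ ω) *
    (lift (fst (H ⊗ H) M ≫ snd H H) (snd (H ⊗ H) M) ≫ ω))
  obtain ⟨A, k, hk, hkfp, hkab, hku⟩ := exists_equalizer a b
  have hfam : ∀ {T : Over S} (x : T ⟶ M), x ≫ a = x ≫ b ↔ AutFam.IsHomFamily H G ((H ◁ x) ≫ ω) := by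
    intro T x
    have key : ∀ {X : Over S} (g₁ g₂ : X ⟶ H) (t : X ⟶ T),
        lift (lift g₁ g₂) t ≫ ((H ⊗ H) ◁ (x ≫ a)) ≫ ω₂ = lift (g₁ * g₂) t ≫ (H ◁ x) ≫ ω ∧
        lift (lift g₁ g₂) t ≫ ((H ⊗ H) ◁ (x ≫ b)) ≫ ω₂ =
          (lift g₁ t ≫ (H ◁ x) ≫ ω) * (lift g₂ t ≫ (H ◁ x) ≫ ω) := by
      intro X g₁ g₂ t
      constructor
      · rw [MonoidalCategory.whiskerLeft_comp_assoc, ha, lift_whiskerLeft_assoc, lift_whiskerLeft_assoc,
          ← Category.assoc, comp_lift, lift_fst_assoc, lift_snd, Hom.mul_def]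
      · rw [MonoidalCategory.whiskerLeft_comp_assoc, hb, lift_whiskerLeft_assoc, MonObj.comp_mul,
          lift_whiskerLeft_assoc, lift_whiskerLeft_assoc, ← Category.assoc, comp_lift, lift_fst_assoc, lift_snd,
          lift_fst, ← Category.assoc, comp_lift, lift_fst_assoc, lift_snd, lift_snd]
    constructor
    · intro h X g₁ g₂ t
      rw [← (key g₁ g₂ t).1, ← (key g₁ g₂ t).2, h]
    · intro h
      refine hω₂.hom_ext ?_
      have := key (fst (H ⊗ H) T ≫ fst H H) (fst (H ⊗ H) T ≫ snd H H) (snd (H ⊗ H) T)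
      rw [← h, show lift (lift (fst (H ⊗ H) T ≫ fst H H) (fst (H ⊗ H) T ≫ snd H H)) (snd (H ⊗ H) T) = 𝟙 _ by
        rw [← comp_lift, lift_fst_snd, Category.comp_id, lift_fst_snd], Category.id_comp, Category.id_comp] at this
      exact this.1.trans this.2.symm
  refine ⟨A, (H ◁ k) ≫ ω, M, ω, k, ⟨(hfam k).mp hkab, fun T φ hφ => ?_⟩, hω, hk, fun hG => ?_, hMa⟩
  · obtain ⟨x, hx, hxu⟩ := hω T φ
    obtain ⟨l, hl, hlu⟩ := hku T x ((hfam x).mpr (hx ▸ hφ))
    refine ⟨l, ?_, fun l' hl' => hlu l' (hxu _ ?_)⟩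
    · show (H ◁ l) ≫ (H ◁ k) ≫ ω = φ
      rw [← MonoidalCategory.whiskerLeft_comp_assoc, hl, hx]
    · show (H ◁ (l' ≫ k)) ≫ ω = φ
      rw [MonoidalCategory.whiskerLeft_comp_assoc]
      exact hl'
  · haveI := hω.lfp
    haveI : IsAffineHom (H ⊗ H).hom := by
      obtain ⟨_, _, _⟩ := id hHH
      infer_instance
    haveI := hω₂.lfp
    haveI := hkfp inferInstance
    rw [← Over.w k]
    infer_instance

end Groth.Agent.HomRep18
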