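import Groth.Agent.HomRep18.HomTwConst
import Groth.Agent.GrpSchLib.RankOneBase
import Mathlib.CategoryTheory.Monoidal.Cartesian.Grp

/-!
# The dual of a quasi-isotrivial group of multiplicative type
-/

set_option autoImplicit false
set_option backward.isDefEq.respectTransparency false
set_option linter.style.haveILetI false
set_option synthInstance.maxHeartbeats 400000

universe u

open CategoryTheory CategoryTheory.Limits MonoidalCategory CartesianMonoidalCategory MonObj Opposite AlgebraicGeometry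
open Groth.Agent.GrpSchLib Groth.Agent.GrpSchLib.AffineHopf

namespace Groth.Agent.HomRep18

variable {S : Scheme.{u}} (H G : Over S) [GrpObj H] [GrpObj G]

/-- The families of homomorphisms into a commutative group form a group. -/
noncomputable def famSubgroup (hc : ∀ {X : Over S} (a b : X ⟶ G), a * b = b * a) (T : Over S) :
    Subgroup (H ⊗ T ⟶ G) where
  carrier := {φ | AutFam.IsHomFamily H G φ}
  one_mem' := fun X g₁ g₂ t => by simp only [MonObj.comp_one, _root_.mul_one]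
  mul_mem' := fun {φ ψ} hφ hψ X g₁ g₂ t => by
    rw [MonObj.comp_mul, MonObj.comp_mul, MonObj.comp_mul, hφ X g₁ g₂ t, hψ X g₁ g₂ t, _root_.mul_assoc,
      ← _root_.mul_assoc (lift g₂ t ≫ φ), hc (lift g₂ t ≫ φ) (lift g₁ t ≫ ψ), _root_.mul_assoc,
      ← _root_.mul_assoc (lift g₁ t ≫ φ)]
  inv_mem' := fun {φ} hφ X g₁ g₂ t => by
    rw [GrpObj.comp_inv, GrpObj.comp_inv, GrpObj.comp_inv, hφ X g₁ g₂ t, _root_.mul_inv_rev, hc]

/-- The presheaf of groups of families of homomorphisms. -/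
noncomputable def famFunctor (hc : ∀ {X : Over S} (a b : X ⟶ G), a * b = b * a) : (Over S)ᵒᵖ ⥤ GrpCat.{u} where
  obj T := GrpCat.of (famSubgroup H G hc T.unop)
  map t := GrpCat.ofHom (MonoidHom.mk' (fun φ => ⟨(H ◁ t.unop) ≫ φ.1, isHomFamily_whisker φ.2 t.unop⟩)
    fun φ ψ => Subtype.ext (MonObj.comp_mul _ _ _))
  map_id T := GrpCat.hom_ext (MonoidHom.ext fun φ => Subtype.ext (by
    show (H ◁ 𝟙 _) ≫ φ.1 = φ.1
    rw [MonoidalCategory.whiskerLeft_id, Category.id_comp]))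
  map_comp t t' := GrpCat.hom_ext (MonoidHom.ext fun φ => Subtype.ext (by
    show (H ◁ (t'.unop ≫ t.unop)) ≫ φ.1 = (H ◁ t'.unop) ≫ (H ◁ t.unop) ≫ φ.1
    rw [MonoidalCategory.whiskerLeft_comp, Category.assoc]))

variable {H G}

theorem points_mul_comm [IsCommMonObj G] {X : Over S} (a b : X ⟶ G) : a * b = b * a := by
  have h : lift a b = lift b a ≫ (β_ G G).hom := CartesianMonoidalCategory.hom_ext _ _ (by simp) (by simp)
  rw [Hom.mul_def, Hom.mul_def, h, Category.assoc, IsCommMonObj.mul_comm]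

/-- A scheme of homomorphisms into a commutative group is a group, pointwise. -/
theorem exists_grpObj_of_representsHom {A : Over S} {υ : H ⊗ A ⟶ G}
    (hc : ∀ {X : Over S} (a b : X ⟶ G), a * b = b * a) (h : AutFam.RepresentsHom H G A υ) :
    ∃ _ : GrpObj A, ∀ (X : Over S) (x : X ⟶ H) (a b : X ⟶ A),
      lift x (a * b) ≫ υ = (lift x a ≫ υ) * (lift x b ≫ υ) := by
  let R : (famFunctor H G hc ⋙ forget GrpCat).RepresentableBy A :=
    { homEquiv := fun {T} =>
        { toFun := fun a => ⟨(H ◁ a) ≫ υ, isHomFamily_whisker h.1 a⟩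
          invFun := fun φ => (h.2 T φ.1 φ.2).choose
          left_inv := fun a => ((h.2 T _ (isHomFamily_whisker h.1 a)).choose_spec.2 a rfl).symm
          right_inv := fun φ => Subtype.ext (h.2 T φ.1 φ.2).choose_spec.1 }
      homEquiv_comp := fun t a => Subtype.ext (by
        show (H ◁ (t ≫ a)) ≫ υ = (H ◁ t) ≫ (H ◁ a) ≫ υ
        rw [MonoidalCategory.whiskerLeft_comp, Category.assoc]) }
  letI := GrpObj.ofRepresentableBy A _ R
  refine ⟨inferInstance, fun X x a b => ?_⟩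
  have key : (H ◁ (a * b)) ≫ υ = ((H ◁ a) ≫ υ) * ((H ◁ b) ≫ υ) :=
    congrArg Subtype.val (((CategoryTheory.yonedaGrpObjIsoOfRepresentableBy A _ R).hom.app (op X)).hom.map_mul a b)
  have hl : ∀ c : X ⟶ A, lift x c ≫ υ = lift x (𝟙 X) ≫ (H ◁ c) ≫ υ := fun c => by
    rw [lift_whiskerLeft_assoc, Category.id_comp]
  rw [hl, key, MonObj.comp_mul, ← hl, ← hl]

/-- The comparison of two schemes of homomorphisms respects the families. -/
theorem exists_iso_of_representsHom {A A' : Over S} {υ : H ⊗ A ⟶ G} {υ' : H ⊗ A' ⟶ G}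
    (h : AutFam.RepresentsHom H G A υ) (h' : AutFam.RepresentsHom H G A' υ') :
    ∃ e : A ≅ A', (H ◁ e.inv) ≫ υ = υ' := by
  obtain ⟨a, ha, -⟩ := h'.2 A υ h.1
  obtain ⟨b, hb, -⟩ := h.2 A' υ' h'.1
  refine ⟨⟨a, b, (h.2 A υ h.1).unique ?_ ?_, (h'.2 A' υ' h'.1).unique ?_ ?_⟩, hb⟩
  · show (H ◁ (a ≫ b)) ≫ υ = υ
    rw [MonoidalCategory.whiskerLeft_comp, Category.assoc, hb, ha]
  · show (H ◁ 𝟙 A) ≫ υ = υ
    rw [MonoidalCategory.whiskerLeft_id, Category.id_comp]
  · show (H ◁ (b ≫ a)) ≫ υ' = υ'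
    rw [MonoidalCategory.whiskerLeft_comp, Category.assoc, ha, hb]
  · show (H ◁ 𝟙 A') ≫ υ' = υ'
    rw [MonoidalCategory.whiskerLeft_id, Category.id_comp]

set_option maxHeartbeats 1000000 in
/-- The homomorphisms to a commutative group form a twisted constant group. -/
theorem exists_representsHom_twConstGrp (H G : Over S) [GrpObj H] [GrpObj G]
    (hc : ∀ {X : Over S} (a b : X ⟶ G), a * b = b * a)
    (hH : TwC.Locally S TwC.Topology.etale (fun S' f => ∃ (M : Type) (_ : AddCommGroup M),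
      Nonempty (Grp.mk (Red.bc f H) ≅ Grp.mk (Red.DS S' M))))
    (hG : TwC.Locally S TwC.Topology.etale (fun S' f => ∃ (M : Type) (_ : AddCommGroup M),
      AddGroup.FG M ∧ Nonempty (Grp.mk (Red.bc f G) ≅ Grp.mk (Red.DS S' M)))) :
    ∃ (D : Over S) (_ : GrpObj D) (υ : H ⊗ D ⟶ G), AutFam.RepresentsHom H G D υ ∧
      (∀ (X : Over S) (h : X ⟶ H) (a b : X ⟶ D), lift h (a * b) ≫ υ = (lift h a ≫ υ) * (lift h b ≫ υ)) ∧
      TwC.IsTwConstGrp TwC.Topology.etale D := by
  obtain ⟨D, υ, hυ, -⟩ := exists_representsHom_twConst H G hH hG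
  obtain ⟨iD, hmul⟩ := exists_grpObj_of_representsHom hc hυ
  letI := iD
  refine ⟨D, iD, υ, hυ, hmul, fun s => ?_⟩
  obtain ⟨R, _, β, M, _, N, _, hβ, hs, hN, ⟨eM⟩, ⟨eN⟩⟩ := exists_split_affine H G hH hG s
  obtain ⟨υ', hυ', hev⟩ := representsHom_bc_ev β hυ
  obtain ⟨υ₀, hυ₀, hpt⟩ := exists_representsHom_const' (R := R) (M := M) hN
  have hυc := representsHom_iso_ev hυ₀ eM.symm eN.symm
  obtain ⟨e, he⟩ := exists_iso_of_representsHom hυ' hυc
  refine ⟨_, β, hβ, hs, N →* M, inferInstance, e, fun a b => ?_⟩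
  haveI : IsMonHom eN.hom.hom.hom := eN.hom.hom.isMonHom_hom
  have hmul' : ∀ {X : Over (Spec (CommRingCat.of R))} (x : X ⟶ Red.bc β H) (p q : X ⟶ Red.bc β D),
      lift x (p * q) ≫ υ' = (lift x p ≫ υ') * (lift x q ≫ υ') := fun x p q =>
    (DSPtsLib.theta_bijective (H := G) β).1 (by
      rw [hev, DSPtsLib.theta_mul, hmul, DSPtsLib.theta_mul, hev, hev])
  have hval : ∀ c : N →* M, (Red.bc β H ◁ (TwC.pt (Spec (CommRingCat.of R)) (N →* M) c ≫ e.inv)) ≫ υ' =
      (fst _ _ ≫ eM.inv.hom.hom) ≫ cMap c ≫ eN.hom.hom.hom := fun c => by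
    rw [MonoidalCategory.whiskerLeft_comp, Category.assoc, he, whisker_exchange_assoc, reassoc_of% hpt c,
      whiskerRight_fst_assoc, Category.assoc]
    rfl
  refine (hυ'.2 _ _ (isHomFamily_whisker hυ'.1 _)).unique ?_ rfl
  show (Red.bc β H ◁ _) ≫ υ' = _
  rw [hval, ← cMap_mul, MonObj.mul_comp, MonObj.comp_mul, ← hval, ← hval]
  have hx : ∀ p : 𝟙_ _ ⟶ Red.bc β D,
      (Red.bc β H ◁ p) = lift (fst (Red.bc β H) _) (snd (Red.bc β H) _ ≫ p) := fun p => by
    refine CartesianMonoidalCategory.hom_ext _ _ ?_ ?_ <;> simp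
  rw [hx, hx, hx, MonObj.comp_mul, hmul']

end Groth.Agent.HomRep18
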