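import Groth.Agent.HomRep18.EtDesc
import Groth.Agent.HomRep18.FamBC
import Groth.Agent.HomRep18.ConstRep
import Groth.Agent.MiscTwoH99.RepGlue
import Groth.Agent.MultTransp18.Bridge
import Groth.Agent.GrpSchLib.MultTypeBC

/-!
# The homomorphisms between quasi-isotrivial groups of multiplicative type form a twisted constant scheme
-/

set_option autoImplicit false
set_option backward.isDefEq.respectTransparency false
set_option linter.style.haveILetI false
set_option synthInstance.maxHeartbeats 400000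

universe u

open CategoryTheory CategoryTheory.Limits MonoidalCategory CartesianMonoidalCategory MonObj Opposite AlgebraicGeometry
open Groth.Agent.GrpSchLib Groth.Agent.GrpSchLib.AffineHopf

namespace Groth.Agent.HomRep18

variable {S : Scheme.{u}}

/-- A splitting pulled back to an affine scheme. -/
theorem nonempty_iso_split {S' : Scheme.{u}} (f : S' ⟶ S) (H : Over S) [GrpObj H] (M : Type) [AddCommGroup M]
    (e : Grp.mk (Red.bc f H) ≅ Grp.mk (Red.DS S' M)) {R : Type u} [CommRing R]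
    (t : Spec (CommRingCat.of R) ⟶ S') :
    Nonempty (Grp.mk (sp R (MonoidAlgebra R (ULift.{u} (Multiplicative M)))) ≅ Grp.mk (Red.bc (t ≫ f) H)) := by
  obtain ⟨e7⟩ := nonempty_DS_iso R M
  obtain ⟨e6⟩ := MultTypeBC.bc_DS t M
  obtain ⟨e5⟩ := MultTypeBC.bc_iso t e
  obtain ⟨e4⟩ := MultTypeBC.bc_bc t f H
  exact ⟨spIso (MultTransp18.uliftBialgEquiv R (Multiplicative M)) ≪≫ e7 ≪≫ e6.symm ≪≫ e5.symm ≪≫ e4⟩

/-- Two quasi-isotrivial groups are split on one affine etale neighbourhood of each point. -/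
theorem exists_split_affine (H G : Over S) [GrpObj H] [GrpObj G]
    (hH : TwC.Locally S TwC.Topology.etale (fun S' f => ∃ (M : Type) (_ : AddCommGroup M),
      Nonempty (Grp.mk (Red.bc f H) ≅ Grp.mk (Red.DS S' M))))
    (hG : TwC.Locally S TwC.Topology.etale (fun S' f => ∃ (M : Type) (_ : AddCommGroup M),
      AddGroup.FG M ∧ Nonempty (Grp.mk (Red.bc f G) ≅ Grp.mk (Red.DS S' M)))) (s : S) :
    ∃ (R : Type u) (_ : CommRing R) (β : Spec (CommRingCat.of R) ⟶ S) (M : Type u) (_ : CommGroup M)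
      (N : Type u) (_ : CommGroup N), Etale β ∧ s ∈ Set.range β.base ∧ Group.FG N ∧
        Nonempty (Grp.mk (sp R (MonoidAlgebra R M)) ≅ Grp.mk (Red.bc β H)) ∧
        Nonempty (Grp.mk (sp R (MonoidAlgebra R N)) ≅ Grp.mk (Red.bc β G)) := by
  obtain ⟨S₁, f₁, hf₁, ⟨x₁, hx₁⟩, M, iM, ⟨eH⟩⟩ := hH s
  obtain ⟨S₂, f₂, hf₂, ⟨x₂, hx₂⟩, N, iN, hN, ⟨eG⟩⟩ := hG s
  obtain ⟨x, hx, -⟩ := Scheme.Pullback.exists_preimage_pullback (f := f₁) (g := f₂) x₁ x₂ (hx₁.trans hx₂.symm)
  let P := pullback f₁ f₂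
  obtain ⟨U, hU, hxU, -⟩ := exists_isAffineOpen_mem_and_subset (show x ∈ (⊤ : P.Opens) from trivial)
  let t : Spec (CommRingCat.of Γ(P, U)) ⟶ P := hU.fromSpec
  haveI : IsOpenImmersion t := inferInstanceAs (IsOpenImmersion hU.fromSpec)
  obtain ⟨p, hp⟩ : x ∈ Set.range t.base := by
    show x ∈ Set.range hU.fromSpec.base
    rw [hU.range_fromSpec]
    exact hxU
  obtain ⟨eH'⟩ := nonempty_iso_split f₁ H M eH (t ≫ pullback.fst f₁ f₂)
  obtain ⟨eG'⟩ := nonempty_iso_split f₂ G N eG (t ≫ pullback.snd f₁ f₂)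
  have hβ : (t ≫ pullback.snd f₁ f₂) ≫ f₂ = (t ≫ pullback.fst f₁ f₂) ≫ f₁ := by
    rw [Category.assoc, Category.assoc, pullback.condition]
  obtain ⟨e⟩ := MultTypeBC.bc_congr hβ G
  haveI : Group.FG (Multiplicative N) := AddGroup.fg_iff_mul_fg.mp hN
  refine ⟨Γ(P, U), inferInstance, (t ≫ pullback.fst f₁ f₂) ≫ f₁, ULift.{u} (Multiplicative M), inferInstance,
    ULift.{u} (Multiplicative N), inferInstance, inferInstance, ⟨p, ?_⟩,
    Group.fg_of_surjective (f := (MulEquiv.ulift.symm : Multiplicative N ≃* ULift.{u} (Multiplicative N)).toMonoidHom)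
      (MulEquiv.surjective _), ⟨eH'⟩, ⟨eG' ≪≫ e⟩⟩
  show f₁ ((pullback.fst f₁ f₂) (t p)) = s
  rw [show t p = x from hp, show (pullback.fst f₁ f₂) x = x₁ from hx]
  exact hx₁

set_option maxHeartbeats 1000000 in
/-- The scheme of homomorphisms. -/
theorem exists_representsHom_twConst (H G : Over S) [GrpObj H] [GrpObj G]
    (hH : TwC.Locally S TwC.Topology.etale (fun S' f => ∃ (M : Type) (_ : AddCommGroup M),
      Nonempty (Grp.mk (Red.bc f H) ≅ Grp.mk (Red.DS S' M))))
    (hG : TwC.Locally S TwC.Topology.etale (fun S' f => ∃ (M : Type) (_ : AddCommGroup M),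
      AddGroup.FG M ∧ Nonempty (Grp.mk (Red.bc f G) ≅ Grp.mk (Red.DS S' M)))) :
    ∃ (A : Over S) (υ : H ⊗ A ⟶ G), AutFam.RepresentsHom H G A υ ∧ TwC.IsTwConst TwC.Topology.etale A := by
  choose R _ β M _ N _ hβ hs hN he he' using exists_split_affine H G hH hG
  have hrep : ∀ s, ∃ υ, AutFam.RepresentsHom (Red.bc (β s) H) (Red.bc (β s) G)
      (TwC.const (Spec (CommRingCat.of (R s))) (N s →* M s)) υ := fun s => by
    obtain ⟨υ, hυ⟩ := exists_representsHom_const (R := R s) (M := M s) (hN s)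
    exact representsHom_iso hυ (he s).some.symm (he' s).some.symm
  choose υ hυ using hrep
  have hdesc : ∀ s, ∃ (U : Over S) (e₀ : (homFun H G).obj (op U)), Set.range U.hom ⊆ Set.range (β s) ∧
      ∀ (T : Over S) (φ : (homFun H G).obj (op T)), Set.range T.hom ⊆ Set.range (β s) →
        ∃! w : T ⟶ U, (homFun H G).map w.op e₀ = φ := by
    intro s
    haveI := hβ s
    obtain ⟨el, hel⟩ := exists_univ_map (β s) (hυ s)
    let A := TwC.const (Spec (CommRingCat.of (R s))) (N s →* M s)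
    let z : (Over.map (β s)).obj A ⟶ Over.mk (β s) := Over.homMk A.hom rfl
    haveI : Etale (Over.mk (β s)).hom := hβ s
    haveI : IsSeparated (Over.mk (β s)).hom := by
      show IsSeparated (β s)
      haveI : IsSeparated (β s ≫ specULiftZIsTerminal.from S) := by
        rw [specULiftZIsTerminal.hom_ext (β s ≫ specULiftZIsTerminal.from S)
          (Spec.map (CommRingCat.ofHom ((algebraMap ℤ (R s)).comp (ULift.ringEquiv.toRingHom))))]
        infer_instance
      exact IsSeparated.of_comp (β s) (specULiftZIsTerminal.from S)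
    haveI : Etale z.left := TwC10.etale_sigmaDesc _ _
    haveI : IsSeparated z.left := TwC10.isSeparated_sigmaDesc _ _
    obtain ⟨U, e₀, -, -, hr, hu⟩ :=
      exists_descended (homFun H G) (isSheaf_homFun _) z el hel
    exact ⟨U, e₀, hr, hu⟩
  choose U e₀ hrU hU using hdesc
  have hO : ∀ s, IsOpen (Set.range (β s)) := fun s => haveI := hβ s; (β s).isOpenMap.isOpen_range
  let O : ∀ (s : S) (T : Over S), (homFun H G).obj (op T) → T.left.Opens := fun s T _ => T.hom ⁻¹ᵁ ⟨_, hO s⟩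
  have hrange : ∀ (s : S) (T : Over S), (T ⟶ U s) → Set.range T.hom ⊆ Set.range (β s) := fun s T z => by
    rintro _ ⟨y, rfl⟩
    rw [← Over.w z, Scheme.Hom.comp_apply]
    exact hrU s ⟨_, rfl⟩
  obtain ⟨A, ⟨r⟩⟩ := MiscTwoH99.RepGlue.exists_representableBy (F := homFun H G)
    (fun T 𝒱 => isSheafFor_openCover T 𝒱) U e₀ O
    (fun s T z z' h => (hU s T _ (hrange s T z)).unique h rfl)
    (fun s T φ T' t => by
      constructor
      · rintro ⟨z, -⟩ _ ⟨y, rfl⟩
        show T.hom (t.left y) ∈ Set.range (β s)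
        rw [← Scheme.Hom.comp_apply, Over.w t]
        exact hrange s T' z ⟨y, rfl⟩
      · intro h
        refine (hU s T' _ ?_).exists
        rintro _ ⟨y, rfl⟩
        rw [← Over.w t, Scheme.Hom.comp_apply]
        exact h ⟨y, rfl⟩)
    (fun T φ => eq_top_iff.mpr fun y _ => TopologicalSpace.Opens.mem_iSup.mpr ⟨T.hom y, hs _⟩)
  let υ₀ : (homFun H G).obj (op A) := r.homEquiv (𝟙 A)
  have hr : ∀ {T : Over S} (a : T ⟶ A), (r.homEquiv a).1 = (H ◁ a) ≫ υ₀.1 := fun a => by
    rw [← homFun_map, ← r.homEquiv_comp, Category.comp_id]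
  have hA : AutFam.RepresentsHom H G A υ₀.1 := by
    refine ⟨υ₀.2, fun T φ hφ => ⟨r.homEquiv.symm ⟨φ, hφ⟩, ?_, fun a ha => ?_⟩⟩
    · show _ = φ
      rw [← hr, Equiv.apply_symm_apply]
    · rw [Equiv.eq_symm_apply]
      exact Subtype.ext ((hr a).trans ha)
  refine ⟨A, υ₀.1, hA, fun s => ⟨_, β s, hβ s, hs s, (N s →* M s), ?_⟩⟩
  obtain ⟨υ', hυ'⟩ := representsHom_bc (β s) hA
  exact nonempty_iso_of_representsHom hυ' (hυ s)

end Groth.Agent.HomRep18
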