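import Groth.Agent.HomRep18.Mor
import Mathlib.AlgebraicGeometry.Morphisms.FiniteType
import Mathlib.RingTheory.Flat.Basic

/-!
# The scheme of morphisms into a scheme of finite type is of finite type

Over an affine open of the base the universal morphism only involves finitely many elements of the coordinate ring of
the scheme of morphisms, and these generate it.
-/

universe u

open CategoryTheory CategoryTheory.Limits MonoidalCategory CartesianMonoidalCategory MonObj AlgebraicGeometry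
open TensorProduct

set_option backward.isDefEq.respectTransparency false
set_option backward.isDefEq.respectTransparency.types false

namespace Groth.Agent.HomRep18

variable {S : Scheme.{u}} {H G : Over S} {V : S.Opens} (hV : IsAffineOpen V) [IsAffineHom H.hom]

/-- An algebra over the sections on an affine open, as a scheme over the base. -/
noncomputable abbrev tA (A : Type u) [CommRing A] [Algebra Γ(S, V) A] : Over S :=
  Over.mk (Spec.map (CommRingCat.ofHom (algebraMap Γ(S, V) A)) ≫ hV.fromSpec)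

theorem isPullback_fromSpec (X : Over S) [IsAffineHom X.hom] :
    IsPullback (hV.preimage X.hom).fromSpec (Spec.map (X.hom.appLE V (X.hom ⁻¹ᵁ V) le_rfl)) X.hom hV.fromSpec := by
  have h := isPullback_morphismRestrict X.hom V
  refine (h.flip.of_iso (hV.preimage X.hom).isoSpec (Iso.refl _) hV.isoSpec (Iso.refl _) ?_ ?_ ?_ ?_)
  · rw [Iso.refl_hom, Category.comp_id, ← IsAffineOpen.isoSpec_inv_ι, Iso.hom_inv_id_assoc]
  · rw [← cancel_mono hV.fromSpec, Category.assoc, Category.assoc,
      IsAffineOpen.SpecMap_appLE_fromSpec X.hom hV (hV.preimage X.hom), ← IsAffineOpen.isoSpec_inv_ι,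
      ← IsAffineOpen.isoSpec_inv_ι, Iso.hom_inv_id_assoc, morphismRestrict_ι, Category.assoc, Iso.hom_inv_id_assoc]
  · simp
  · rw [Iso.refl_hom, Category.comp_id, ← IsAffineOpen.isoSpec_inv_ι, Iso.hom_inv_id_assoc]

/-- The coordinate ring of `H` over the open. -/
abbrev secH (H : Over S) (V : S.Opens) : Type u := Γ(H.left, H.hom ⁻¹ᵁ V)

noncomputable instance algSecH : Algebra Γ(S, V) (secH H V) := (H.hom.appLE V (H.hom ⁻¹ᵁ V) le_rfl).hom.toAlgebra

variable (H) in
/-- The product with `H` of an algebra over the open is the spectrum of the tensor product. -/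
theorem isPullback_prod (A : Type u) [CommRing A] [Algebra Γ(S, V) A] :
    IsPullback (Spec.map (CommRingCat.ofHom (Algebra.TensorProduct.includeLeft :
        secH H V →ₐ[Γ(S, V)] secH H V ⊗[Γ(S, V)] A).toRingHom) ≫ (hV.preimage H.hom).fromSpec)
      (Spec.map (CommRingCat.ofHom (Algebra.TensorProduct.includeRight :
        A →ₐ[Γ(S, V)] secH H V ⊗[Γ(S, V)] A).toRingHom)) H.hom (tA hV A).hom := by
  have h := CommRingCat.isPushout_tensorProduct Γ(S, V) (secH H V) A
  exact (isPullback_SpecMap_of_isPushout _ _ _ _ h).paste_horiz (isPullback_fromSpec hV H)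

variable (H) in
/-- The comparison with the product. -/
noncomputable def prodIso (A : Type u) [CommRing A] [Algebra Γ(S, V) A] :
    Over.mk (Spec.map (CommRingCat.ofHom (algebraMap Γ(S, V) (secH H V ⊗[Γ(S, V)] A))) ≫ hV.fromSpec) ≅
      H ⊗ tA hV A :=
  Over.isoMk (isPullback_prod H hV A).isoPullback (by
    show (isPullback_prod H hV A).isoPullback.hom ≫ pullback.fst H.hom (tA hV A).hom ≫ H.hom = _
    rw [pullback.condition, IsPullback.isoPullback_hom_snd_assoc]
    show Spec.map _ ≫ Spec.map _ ≫ hV.fromSpec = _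
    rw [← Category.assoc, ← Spec.map_comp]
    congr 2
    exact CommRingCat.hom_ext (Algebra.TensorProduct.includeRight :
      A →ₐ[Γ(S, V)] secH H V ⊗[Γ(S, V)] A).comp_algebraMap)

/-- An algebra map, as a morphism over the base. -/
noncomputable def tMap {A A' : Type u} [CommRing A] [Algebra Γ(S, V) A] [CommRing A'] [Algebra Γ(S, V) A']
    (f : A →ₐ[Γ(S, V)] A') : tA hV A' ⟶ tA hV A :=
  Over.homMk (Spec.map (CommRingCat.ofHom f.toRingHom)) (by
    show Spec.map _ ≫ Spec.map _ ≫ hV.fromSpec = _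
    rw [← Category.assoc, ← Spec.map_comp]
    congr 2
    exact CommRingCat.hom_ext f.comp_algebraMap)

theorem prodIso_natural {A A' : Type u} [CommRing A] [Algebra Γ(S, V) A] [CommRing A'] [Algebra Γ(S, V) A']
    (f : A →ₐ[Γ(S, V)] A') :
    (prodIso H hV A').hom ≫ (H ◁ tMap hV f) =
      tMap hV (Algebra.TensorProduct.map (AlgHom.id Γ(S, V) (secH H V)) f) ≫ (prodIso H hV A).hom := by
  refine Over.OverMorphism.ext ?_
  show (isPullback_prod H hV A').isoPullback.hom ≫ (H ◁ tMap hV f).left =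
    Spec.map _ ≫ (isPullback_prod H hV A).isoPullback.hom
  have h1 : (H ◁ tMap hV f).left ≫ pullback.fst H.hom (tA hV A).hom = pullback.fst H.hom (tA hV A').hom :=
    congrArg Over.Hom.left (whiskerLeft_fst H (tMap hV f))
  have h2 : (H ◁ tMap hV f).left ≫ pullback.snd H.hom (tA hV A).hom =
      pullback.snd H.hom (tA hV A').hom ≫ (tMap hV f).left :=
    congrArg Over.Hom.left (whiskerLeft_snd H (tMap hV f))
  apply pullback.hom_ext
  · rw [Category.assoc, Category.assoc, h1, IsPullback.isoPullback_hom_fst, IsPullback.isoPullback_hom_fst,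
      ← Category.assoc, ← Spec.map_comp]
    congr 2
    refine CommRingCat.hom_ext (RingHom.ext fun x => ?_)
    show x ⊗ₜ[Γ(S, V)] (1 : A') = Algebra.TensorProduct.map (AlgHom.id Γ(S, V) (secH H V)) f (x ⊗ₜ (1 : A))
    rw [Algebra.TensorProduct.map_tmul, map_one, AlgHom.id_apply]
  · rw [Category.assoc, Category.assoc, h2, IsPullback.isoPullback_hom_snd, IsPullback.isoPullback_hom_snd_assoc]
    show Spec.map _ ≫ Spec.map _ = Spec.map _ ≫ Spec.map _
    rw [← Spec.map_comp, ← Spec.map_comp]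
    refine congrArg Spec.map (CommRingCat.hom_ext (RingHom.ext fun x => ?_))
    show (1 : secH H V) ⊗ₜ[Γ(S, V)] f x = Algebra.TensorProduct.map (AlgHom.id Γ(S, V) (secH H V)) f (1 ⊗ₜ x)
    rw [Algebra.TensorProduct.map_tmul, AlgHom.id_apply]

variable [IsAffineHom G.hom]

include hV in
/-- A morphism from an algebra over the open into an affine scheme is given on coordinates. -/
theorem exists_algHom (X : Over S) [IsAffineHom X.hom] {A : Type u} [CommRing A] [Algebra Γ(S, V) A]
    (a : tA hV A ⟶ X) :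
    letI := (X.hom.appLE V (X.hom ⁻¹ᵁ V) le_rfl).hom.toAlgebra
    ∃ θ : Γ(X.left, X.hom ⁻¹ᵁ V) →ₐ[Γ(S, V)] A,
      a.left = Spec.map (CommRingCat.ofHom θ.toRingHom) ≫ (hV.preimage X.hom).fromSpec := by
  letI := (X.hom.appLE V (X.hom ⁻¹ᵁ V) le_rfl).hom.toAlgebra
  have H0 := isPullback_fromSpec hV X
  let l := H0.lift a.left (Spec.map (CommRingCat.ofHom (algebraMap Γ(S, V) A))) (Over.w a)
  have h2 : Spec.map (X.hom.appLE V (X.hom ⁻¹ᵁ V) le_rfl ≫ Spec.preimage l) =
      Spec.map (CommRingCat.ofHom (algebraMap Γ(S, V) A)) := by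
    rw [Spec.map_comp, Spec.map_preimage]
    exact H0.lift_snd _ _ _
  refine ⟨{ (Spec.preimage l).hom with
    commutes' := fun r => RingHom.congr_fun (congrArg CommRingCat.Hom.hom (Spec.map_injective h2)) r }, ?_⟩
  show a.left = Spec.map (Spec.preimage l) ≫ _
  rw [Spec.map_preimage]
  exact (H0.lift_fst _ _ _).symm

include hV in
/-- Morphisms into an affine scheme from coordinates. -/
theorem exists_hom (X : Over S) [IsAffineHom X.hom] {A : Type u} [CommRing A] [Algebra Γ(S, V) A] :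
    letI := (X.hom.appLE V (X.hom ⁻¹ᵁ V) le_rfl).hom.toAlgebra
    ∀ θ : Γ(X.left, X.hom ⁻¹ᵁ V) →ₐ[Γ(S, V)] A, ∃ a : tA hV A ⟶ X,
      a.left = Spec.map (CommRingCat.ofHom θ.toRingHom) ≫ (hV.preimage X.hom).fromSpec := by
  letI := (X.hom.appLE V (X.hom ⁻¹ᵁ V) le_rfl).hom.toAlgebra
  intro θ
  refine ⟨Over.homMk (Spec.map (CommRingCat.ofHom θ.toRingHom) ≫ (hV.preimage X.hom).fromSpec) ?_, rfl⟩
  show (_ ≫ (hV.preimage X.hom).fromSpec) ≫ X.hom = Spec.map _ ≫ hV.fromSpec
  rw [Category.assoc, ← IsAffineOpen.SpecMap_appLE_fromSpec X.hom hV (hV.preimage X.hom) le_rfl, ← Category.assoc,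
    ← Spec.map_comp]
  congr 2
  exact CommRingCat.hom_ext θ.comp_algebraMap

set_option maxHeartbeats 1000000 in
include hV in
/-- The sections of the scheme of morphisms over the open form an algebra of finite type. -/
theorem IsMorRep.finiteType [Flat H.hom] [LocallyOfFiniteType G.hom] {M : Over S} [IsAffineHom M.hom] {ω : H ⊗ M ⟶ G}
    (h : IsMorRep H G ω) : (M.hom.appLE V (M.hom ⁻¹ᵁ V) le_rfl).hom.FiniteType := by
  classical
  letI := (M.hom.appLE V (M.hom ⁻¹ᵁ V) le_rfl).hom.toAlgebra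
  letI := (G.hom.appLE V (G.hom ⁻¹ᵁ V) le_rfl).hom.toAlgebra
  let W : Type u := Γ(M.left, M.hom ⁻¹ᵁ V)
  haveI : Module.Flat Γ(S, V) (secH H V) := by
    have := HasRingHomProperty.appLE (P := @Flat) H.hom ‹_› ⟨V, hV⟩ ⟨_, hV.preimage H.hom⟩ le_rfl
    exact RingHom.flat_algebraMap_iff.mp this
  haveI : Algebra.FiniteType Γ(S, V) Γ(G.left, G.hom ⁻¹ᵁ V) := by
    have := HasRingHomProperty.appLE (P := @LocallyOfFiniteType) G.hom ‹_› ⟨V, hV⟩ ⟨_, hV.preimage G.hom⟩ le_rfl
    exact RingHom.finiteType_algebraMap.mp this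
  obtain ⟨a, ha⟩ := exists_hom hV M (AlgHom.id Γ(S, V) W)
  obtain ⟨θ, hθ⟩ := exists_algHom hV G ((prodIso H hV W).hom ≫ (H ◁ a) ≫ ω)
  -- finitely many elements of `W` are involved
  obtain ⟨s, hs⟩ := (inferInstance : Algebra.FiniteType Γ(S, V) Γ(G.left, G.hom ⁻¹ᵁ V)).out
  choose τ hτ using fun c => TensorProduct.exists_finset (θ c)
  let W' : Subalgebra Γ(S, V) W := Algebra.adjoin Γ(S, V) ↑(s.biUnion fun c => (τ c).image Prod.snd)
  let ι' := Algebra.TensorProduct.map (AlgHom.id Γ(S, V) (secH H V)) W'.val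
  have hinj : Function.Injective ι' :=
    Module.Flat.lTensor_preserves_injective_linearMap (M := secH H V) W'.val.toLinearMap Subtype.val_injective
  have hrange : ∀ c, θ c ∈ ι'.range := by
    have hle : Algebra.adjoin Γ(S, V) (s : Set Γ(G.left, G.hom ⁻¹ᵁ V)) ≤ ι'.range.comap θ := by
      refine Algebra.adjoin_le fun c hc => ?_
      show θ c ∈ ι'.range
      rw [hτ c]
      refine Subalgebra.sum_mem _ fun i hi => ⟨i.1 ⊗ₜ[Γ(S, V)] (⟨i.2, Algebra.subset_adjoin
        (Finset.mem_coe.mpr (Finset.mem_biUnion.mpr ⟨c, hc, Finset.mem_image_of_mem _ hi⟩))⟩ : W'), rfl⟩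
    intro c
    exact hle (hs ▸ Algebra.mem_top)
  let θ' : Γ(G.left, G.hom ⁻¹ᵁ V) →ₐ[Γ(S, V)] secH H V ⊗[Γ(S, V)] W' :=
    (AlgEquiv.ofInjective ι' hinj).symm.toAlgHom.comp (θ.codRestrict ι'.range hrange)
  have hθ' : ι'.comp θ' = θ := AlgHom.ext fun c =>
    congrArg Subtype.val ((AlgEquiv.ofInjective ι' hinj).apply_symm_apply (θ.codRestrict ι'.range hrange c))
  -- the universal morphism is defined over it
  obtain ⟨φ', hφ'⟩ := exists_hom hV G θ'
  obtain ⟨a', ha', -⟩ := h (tA hV W') ((prodIso H hV W').inv ≫ φ')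
  obtain ⟨ρ, hρ⟩ := exists_algHom hV M a'
  have haa : tMap hV W'.val ≫ a' = a := h.hom_ext (by
    rw [MonoidalCategory.whiskerLeft_comp_assoc, show (H ◁ a') ≫ ω = (prodIso H hV W').inv ≫ φ' from ha',
      ← cancel_epi (prodIso H hV W).hom, ← Category.assoc, prodIso_natural, Category.assoc, Iso.hom_inv_id_assoc]
    refine Over.OverMorphism.ext ?_
    rw [hθ, Over.comp_left, hφ', ← Category.assoc]
    congr 1
    show Spec.map _ ≫ Spec.map _ = Spec.map _
    rw [← Spec.map_comp]
    congr 1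
    exact CommRingCat.hom_ext (congrArg AlgHom.toRingHom hθ'))
  have hid : ∀ w : W, W'.val (ρ w) = w := by
    have h1 := congrArg Over.Hom.left haa
    rw [Over.comp_left, hρ, ha, ← Category.assoc, cancel_mono] at h1
    have h2 : Spec.map (CommRingCat.ofHom (W'.val.comp ρ).toRingHom) =
        Spec.map (CommRingCat.ofHom (AlgHom.id Γ(S, V) W).toRingHom) := by
      rw [← h1]
      show _ = Spec.map _ ≫ Spec.map _
      rw [← Spec.map_comp]
      rfl
    exact fun w => RingHom.congr_fun (congrArg CommRingCat.Hom.hom (Spec.map_injective h2)) w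
  have htop : W' = ⊤ := top_le_iff.mp fun w _ => hid w ▸ (ρ w).2
  refine RingHom.finiteType_algebraMap.mpr ⟨⟨_, htop⟩⟩

omit [IsAffineHom H.hom] in
/-- The scheme of morphisms into a scheme locally of finite type is locally of finite type. -/
theorem IsMorRep.lft {H G : Over S} [IsAffineHom H.hom] [Flat H.hom] [IsAffineHom G.hom] [LocallyOfFiniteType G.hom]
    {M : Over S} [IsAffineHom M.hom] {ω : H ⊗ M ⟶ G} (h : IsMorRep H G ω) : LocallyOfFiniteType M.hom := by
  rw [IsZariskiLocalAtSource.iff_of_openCover (P := @LocallyOfFiniteType)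
    (M.left.openCoverOfIsOpenCover (fun V : S.affineOpens => M.hom ⁻¹ᵁ V.1) (top_le_iff.mp fun x _ => by
      obtain ⟨V, hV, hxV, -⟩ := exists_isAffineOpen_mem_and_subset (show M.hom x ∈ (⊤ : S.Opens) from trivial)
      exact TopologicalSpace.Opens.mem_iSup.mpr ⟨⟨V, hV⟩, hxV⟩))]
  intro V
  show LocallyOfFiniteType ((M.hom ⁻¹ᵁ V.1).ι ≫ M.hom)
  have hU := V.2.preimage M.hom
  have : LocallyOfFiniteType (hU.fromSpec ≫ M.hom) := by
    rw [← IsAffineOpen.SpecMap_appLE_fromSpec M.hom V.2 hU le_rfl]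
    haveI : LocallyOfFiniteType (Spec.map (M.hom.appLE V.1 (M.hom ⁻¹ᵁ V.1) le_rfl)) :=
      (HasRingHomProperty.Spec_iff (P := @LocallyOfFiniteType)).mpr (IsMorRep.finiteType V.2 h)
    infer_instance
  rw [← IsAffineOpen.isoSpec_inv_ι, Category.assoc] at this
  exact (MorphismProperty.cancel_left_of_respectsIso @LocallyOfFiniteType _ _).mp this

end Groth.Agent.HomRep18
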