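import Groth.Agent.S7194
import Groth.Agent.MiscTwoH99.LfpRep

/-!
# The scheme of morphisms from a finite locally free scheme to an affine scheme, over any base

`IsMorRep H G ω`: every morphism `H ⊗ T ⟶ G` is obtained from `ω` through exactly one morphism `T ⟶ M`.
-/

universe u

open CategoryTheory CategoryTheory.Limits MonoidalCategory CartesianMonoidalCategory MonObj AlgebraicGeometry Opposite

set_option backward.isDefEq.respectTransparency false
set_option backward.isDefEq.respectTransparency.types false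

namespace Groth.Agent.HomRep18

variable {S : Scheme.{u}}

/-- `M` with `ω` is the scheme of morphisms from `H` to `G`. -/
def IsMorRep (H G : Over S) {M : Over S} (ω : H ⊗ M ⟶ G) : Prop :=
  ∀ (T : Over S) (φ : H ⊗ T ⟶ G), ∃! a : T ⟶ M, (H ◁ a) ≫ ω = φ

variable {H G : Over S}

theorem IsMorRep.hom_ext {M : Over S} {ω : H ⊗ M ⟶ G} (h : IsMorRep H G ω) {T : Over S} {a b : T ⟶ M}
    (e : (H ◁ a) ≫ ω = (H ◁ b) ≫ ω) : a = b :=
  (h T _).unique e rfl

/-- The two ways of writing the product with `H`. -/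
noncomputable def symmIso (H T : Over S) : H ⊗ T ≅ (Over.map H.hom).obj ((Over.pullback H.hom).obj T) :=
  Over.isoMk (pullbackSymmetry H.hom T.hom) (by
    show (pullbackSymmetry H.hom T.hom).hom ≫ pullback.snd T.hom H.hom ≫ H.hom = pullback.fst H.hom T.hom ≫ H.hom
    rw [← Category.assoc, pullbackSymmetry_hom_comp_snd])

theorem symmIso_natural (H : Over S) {T T' : Over S} (a : T ⟶ T') :
    (H ◁ a) ≫ (symmIso H T').hom = (symmIso H T).hom ≫ (Over.map H.hom).map ((Over.pullback H.hom).map a) := by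
  refine Over.OverMorphism.ext ?_
  show (H ◁ a).left ≫ (pullbackSymmetry H.hom T'.hom).hom =
    (pullbackSymmetry H.hom T.hom).hom ≫ pullback.lift (pullback.fst T.hom H.hom ≫ a.left) (pullback.snd T.hom H.hom) _
  have h1 : (H ◁ a).left ≫ pullback.fst H.hom T'.hom = pullback.fst H.hom T.hom :=
    congrArg Over.Hom.left (whiskerLeft_fst H a)
  have h2 : (H ◁ a).left ≫ pullback.snd H.hom T'.hom = pullback.snd H.hom T.hom ≫ a.left :=
    congrArg Over.Hom.left (whiskerLeft_snd H a)
  apply pullback.hom_ext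
  · rw [Category.assoc, pullbackSymmetry_hom_comp_fst, Category.assoc, pullback.lift_fst, h2,
      pullbackSymmetry_hom_comp_fst_assoc]
  · rw [Category.assoc, pullbackSymmetry_hom_comp_snd, Category.assoc, pullback.lift_snd, h1,
      pullbackSymmetry_hom_comp_snd]

/-- The scheme of morphisms exists and is affine over the base. -/
theorem exists_morRep (H G : Over S) (hH : Mor2.IsFinLocFree H.hom) [IsAffineHom G.hom] :
    ∃ (M : Over S) (ω : H ⊗ M ⟶ G), IsMorRep H G ω ∧ IsAffineHom M.hom := by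
  obtain ⟨M, hM, ⟨rep⟩⟩ := S7194.result H.hom G.hom hH
  let ω : H ⊗ M ⟶ G := (symmIso H M).hom ≫ rep.homEquiv (𝟙 M)
  have key : ∀ {T : Over S} (a : T ⟶ M), (H ◁ a) ≫ ω = (symmIso H T).hom ≫ rep.homEquiv a := fun {T} a => by
    have h : rep.homEquiv a = (Over.map H.hom).map ((Over.pullback H.hom).map a) ≫ rep.homEquiv (𝟙 M) := by
      conv_lhs => rw [← Category.comp_id a, rep.homEquiv_comp]
      rfl
    rw [h]
    show (H ◁ a) ≫ (symmIso H M).hom ≫ _ = _
    rw [← Category.assoc, symmIso_natural, Category.assoc]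
  refine ⟨M, ω, fun T φ => ⟨rep.homEquiv.symm ((symmIso H T).inv ≫ φ), ?_, fun b hb => ?_⟩, hM⟩
  · dsimp only
    rw [key, Equiv.apply_symm_apply]
    exact (symmIso H T).hom_inv_id_assoc φ
  · rw [Equiv.eq_symm_apply]
    rw [← hb, key]
    exact ((symmIso H T).inv_hom_id_assoc _).symm

set_option maxHeartbeats 1000000 in
/-- The scheme of morphisms into a scheme locally of finite presentation is so. -/
theorem IsMorRep.lfp {M : Over S} {ω : H ⊗ M ⟶ G} (h : IsMorRep H G ω) [IsAffineHom H.hom]
    [LocallyOfFinitePresentation G.hom] : LocallyOfFinitePresentation M.hom := by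
  refine LimitsH94.locallyOfFinitePresentation_of_factor M.hom fun O hO J _ _ _ D t c hc haff j₀ a ha => ?_
  let tV : D ⟶ (Functor.const Jᵒᵖ).obj S := t ≫ (Functor.const _).map O.ι
  let DS : Jᵒᵖ ⥤ Over S :=
    { obj := fun j => Over.mk (tV.app j)
      map := fun {j k} φ => Over.homMk (D.map φ) (by
        change D.map φ ≫ tV.app k = tV.app j
        rw [tV.naturality φ]
        simp)
      map_id := fun j => Over.OverMorphism.ext (D.map_id j)
      map_comp := fun f g => Over.OverMorphism.ext (D.map_comp f g) }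
  have hcomp : ∀ j : Jᵒᵖ, c.π.app j ≫ tV.app j = c.π.app j₀ ≫ tV.app j₀ := fun j => by
    obtain ⟨l, u, v, -⟩ := IsCofilteredOrEmpty.cone_objs j j₀
    rw [← c.w u, ← c.w v, Category.assoc, Category.assoc, tV.naturality u, tV.naturality v]
    simp
  let cS : Cone DS :=
    { pt := Over.mk (c.π.app j₀ ≫ tV.app j₀)
      π :=
        { app := fun j => Over.homMk (c.π.app j) (hcomp j)
          naturality := fun j k φ => Over.OverMorphism.ext (by
            change 𝟙 _ ≫ c.π.app k = c.π.app j ≫ D.map φ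
            rw [Category.id_comp, c.w φ]) } }
  have hcS : IsLimit ((Over.forget S).mapCone cS) := hc
  let a' : cS.pt ⟶ M := Over.homMk a ha
  have hBA : ∀ i, IsAffine ((DS ⋙ tensorLeft H).obj i).left := fun i =>
    haveI : IsAffine (DS.obj i).left := haff i
    MiscTwoH99.LfpRep.isAffine_tensor H (DS.obj i)
  let F : G ⟶ 𝟙_ (Over S) := toUnit G
  haveI : LocallyOfFinitePresentation F.left := by
    show LocallyOfFinitePresentation (toUnit G).left
    rw [show (toUnit G).left = G.hom from rfl]
    infer_instance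
  obtain ⟨k, f, g, -, hg⟩ := MiscTwoH99.LfpRep.exists_lift_stage (DS ⋙ tensorLeft H) hBA _
    (MiscTwoH99.LfpRep.isLimit_tensor DS cS H hcS) F (i := j₀) ((H ◁ a') ≫ ω) (toUnit _) (toUnit_unique _ _)
  obtain ⟨al, hal, -⟩ := h (DS.obj k) g
  refine ⟨k, al.left, Over.w al, congrArg Over.Hom.left (h.hom_ext (?_ : (H ◁ (cS.π.app k ≫ al)) ≫ ω = (H ◁ a') ≫ ω))⟩
  rw [MonoidalCategory.whiskerLeft_comp_assoc, hal]
  exact hg

end Groth.Agent.HomRep18
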