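import Groth.Agent.FpqcDescLib.Closed
import Groth.Prelude.Def_SGA3x
import Mathlib.AlgebraicGeometry.Morphisms.LocalFlatDescent
import Mathlib.RingTheory.Flat.Basic
import Mathlib.Algebra.MonoidAlgebra.Module

/-! Groups of multiplicative type and of finite type are flat over the base. -/

universe u

open CategoryTheory CategoryTheory.Limits AlgebraicGeometry

set_option backward.isDefEq.respectTransparency false

namespace Groth.Agent.HomRep18.MultFlat

theorem flat_diag (R : Type u) [CommRing R] (M : Type) [AddCommGroup M] :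
    Flat (Red.diag R M).hom := by
  refine (HasRingHomProperty.Spec_iff (P := @Flat)).mpr ?_
  exact RingHom.flat_algebraMap_iff.mpr (inferInstance : Module.Flat R (MonoidAlgebra R (Multiplicative M)))

theorem flat_DS (T : Scheme.{u}) (M : Type) [AddCommGroup M] :
    Flat (Red.DS T M).hom :=
  haveI := flat_diag (ULift.{u} ℤ) M
  inferInstanceAs (Flat (pullback.snd (Red.diag (ULift.{u} ℤ) M).hom _))

/-- A group of multiplicative type and of finite type is locally of finite type. -/
theorem flat {S : Scheme.{u}} {H : Over S} [GrpObj H] (hH : SGA3x.IsMultTypeFT H) :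
    Flat H.hom := by
  obtain ⟨S', f, hflat, hsurj, hqc, hloc⟩ := hH
  choose O hO M hM hfg hiso using hloc
  have hcov : FpqcDescLib.Covers f :=
    FpqcDescLib.covers_of_hcov f ⟨S', f, 𝟙 _, Category.id_comp _, hsurj, hflat, hqc⟩
  refine hcov.descends @Flat H.hom (pullback.snd H.hom f) (pullback.fst H.hom f)
    (IsPullback.of_hasPullback H.hom f).flip ?_
  refine IsZariskiLocalAtTarget.of_forall_exists_morphismRestrict fun s' => ⟨O s', hO s', ?_⟩
  obtain ⟨i⟩ := hiso s'
  haveI := flat_DS (O s' : Scheme.{u}) (M s')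
  have H1 : IsPullback ((pullback.snd H.hom f ⁻¹ᵁ O s').ι ≫ pullback.fst H.hom f)
      (pullback.snd H.hom f ∣_ O s') H.hom ((O s').ι ≫ f) :=
    (isPullback_morphismRestrict _ _).flip.paste_horiz (IsPullback.of_hasPullback H.hom f)
  rw [← H1.isoPullback_hom_snd]
  haveI : IsIso i.hom.hom.hom.left :=
    ⟨i.inv.hom.hom.left, congrArg (fun h => h.hom.hom.left) i.hom_inv_id,
      congrArg (fun h => h.hom.hom.left) i.inv_hom_id⟩
  haveI : Flat (pullback.snd H.hom ((O s').ι ≫ f)) := by
    have hw : i.hom.hom.hom.left ≫ (Red.DS (O s' : Scheme.{u}) (M s')).hom = pullback.snd H.hom ((O s').ι ≫ f) :=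
      Over.w i.hom.hom.hom
    rw [← hw]
    infer_instance
  infer_instance

end Groth.Agent.HomRep18.MultFlat
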