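import Groth.Agent.HomRep18.Grouplike
import Groth.Agent.MultCentral18.Hom
import Groth.Agent.FreeAct18.Split
import Groth.Agent.WeilRes28.Sch
import Groth.Prelude.Def_AutFam
import Mathlib.RingTheory.Etale.Pi
import Mathlib.AlgebraicGeometry.Morphisms.Etale
import Mathlib.AlgebraicGeometry.Morphisms.Finite

/-!
# The scheme of homomorphisms between finite diagonalisable groups is finite etale
-/

universe u

open CategoryTheory CategoryTheory.Limits MonoidalCategory CartesianMonoidalCategory MonObj AlgebraicGeometry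
open TensorProduct
open Groth.Agent.GrpSchLib.AffineHopf
open Groth.Agent.FreeAct18 (exists_spMap_eq spMap_inj mul_single uG uX uG_single uX_apply)
open Groth.Agent.MultCentral18 (point_mul)

set_option backward.isDefEq.respectTransparency false
set_option linter.style.haveILetI false
set_option synthInstance.maxHeartbeats 400000
set_option maxHeartbeats 1000000

namespace Groth.Agent.HomRep18

variable {R : Type u} [CommRing R] {M N : Type u} [CommGroup M] [CommGroup N]

/-- The group algebra is the tensor product. -/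
theorem bijective_uPair (T : Type u) [CommRing T] [Algebra R T] :
    Function.Bijective (Algebra.TensorProduct.lift (uG (k := R) (A := T) (N := M)) (uX (k := R) (A := T) (N := M))
      fun _ _ => Commute.all _ _) := by
  let e : MonoidAlgebra R M ⊗[R] T ≃ₐ[R] MonoidAlgebra T M :=
    (Algebra.TensorProduct.comm R (MonoidAlgebra R M) T).trans
      ((MonoidAlgebra.scalarTensorEquiv R T (M := M)).restrictScalars R)
  have he : Algebra.TensorProduct.lift (uG (k := R) (A := T) (N := M)) (uX (k := R) (A := T) (N := M))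
      (fun _ _ => Commute.all _ _) = e.toAlgHom := by
    apply Algebra.TensorProduct.ext
    · refine MonoidAlgebra.algHom_ext (fun m => ?_) (by ext)
      simp [e]
    · refine AlgHom.ext fun t => ?_
      simp [e, uX_apply, MonoidAlgebra.one_def]
  rw [he]
  exact e.bijective

/-- The pair of universal points. -/
noncomputable def pr (T : Type u) [CommRing T] [Algebra R T] :
    sp R (MonoidAlgebra T M) ⟶ sp R (MonoidAlgebra R M) ⊗ sp R T :=
  lift (spMap (uG (k := R) (A := T) (N := M))) (spMap (uX (k := R) (A := T) (N := M)))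

instance isIso_pr (T : Type u) [CommRing T] [Algebra R T] : IsIso (pr (R := R) (M := M) T) := by
  let A := MonoidAlgebra R M
  let σ : A ⊗[R] T →ₐ[R] MonoidAlgebra T M :=
    Algebra.TensorProduct.lift (uG (k := R) (A := T) (N := M)) uX fun _ _ => Commute.all _ _
  haveI : IsIso (CommRingCat.ofHom σ.toRingHom) := by
    have := bijective_uPair (R := R) (M := M) T
    exact inferInstanceAs (IsIso ((RingEquiv.ofBijective σ.toRingHom this).toCommRingCatIso.hom))
  have hpr : (pr (R := R) (M := M) T).left = Spec.map (CommRingCat.ofHom σ.toRingHom) ≫ (pullbackSpecIso R A T).inv := by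
    refine pullback.hom_ext ?_ ?_
    · refine (congrArg Over.Hom.left (lift_fst _ _)).trans ?_
      erw [Category.assoc, pullbackSpecIso_inv_fst, ← Spec.map_comp]
      refine congrArg Spec.map (CommRingCat.hom_ext (RingHom.ext fun x => ?_))
      show uG x = σ (x ⊗ₜ[R] (1 : T))
      simp [σ] <;> rfl
    · refine (congrArg Over.Hom.left (lift_snd _ _)).trans ?_
      erw [Category.assoc, pullbackSpecIso_inv_snd, ← Spec.map_comp]
      refine congrArg Spec.map (CommRingCat.hom_ext (RingHom.ext fun x => ?_))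
      show uX (k := R) (N := M) (x : T) = σ ((1 : A) ⊗ₜ[R] (x : T))
      simp [σ] <;> rfl
  haveI : IsIso (pr (R := R) (M := M) T).left := by
    rw [hpr]
    infer_instance
  haveI : IsIso ((Over.forget _).map (pr (R := R) (M := M) T)) := ‹_›
  exact isIso_of_reflects_iso _ (Over.forget _)

/-- A coordinate map, as a family over `T`. -/
noncomputable def fam {T : Type u} [CommRing T] [Algebra R T] (g : MonoidAlgebra R N →ₐ[R] MonoidAlgebra T M) :
    sp R (MonoidAlgebra R M) ⊗ sp R T ⟶ sp R (MonoidAlgebra R N) :=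
  inv (pr T) ≫ spMap g

theorem exists_fam {T : Type u} [CommRing T] [Algebra R T]
    (φ : sp R (MonoidAlgebra R M) ⊗ sp R T ⟶ sp R (MonoidAlgebra R N)) :
    ∃ g, φ = fam g := by
  obtain ⟨g, hg⟩ := exists_spMap_eq (pr T ≫ φ)
  exact ⟨g, by rw [fam, IsIso.eq_inv_comp, hg]⟩

theorem fam_inj {T : Type u} [CommRing T] [Algebra R T] {g g' : MonoidAlgebra R N →ₐ[R] MonoidAlgebra T M}
    (h : fam g = fam g') : g = g' :=
  spMap_inj ((cancel_epi (inv (pr T))).mp h)

theorem mapRange_uG {T T' : Type u} [CommRing T] [Algebra R T] [CommRing T'] [Algebra R T'] (h : T →ₐ[R] T') :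
    (MonoidAlgebra.mapAlgHom M h).comp (uG (k := R) (A := T) (N := M)) = uG :=
  MonoidAlgebra.algHom_ext (fun m => by simp) (by ext)

theorem mapRange_uX {T T' : Type u} [CommRing T] [Algebra R T] [CommRing T'] [Algebra R T'] (h : T →ₐ[R] T') :
    (MonoidAlgebra.mapAlgHom M h).comp (uX (k := R) (A := T) (N := M)) = uX.comp h :=
  AlgHom.ext fun t => by simp [uX_apply]

/-- Pulling a family back is mapping the coefficients. -/
theorem whisker_fam {T T' : Type u} [CommRing T] [Algebra R T] [CommRing T'] [Algebra R T'] (h : T →ₐ[R] T')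
    (g : MonoidAlgebra R N →ₐ[R] MonoidAlgebra T M) :
    (sp R (MonoidAlgebra R M) ◁ spMap h) ≫ fam g = fam ((MonoidAlgebra.mapAlgHom M h).comp g) := by
  have key : spMap (MonoidAlgebra.mapAlgHom M h) ≫ pr T =
      pr T' ≫ (sp R (MonoidAlgebra R M) ◁ spMap h) := by
    rw [pr, pr, comp_lift, lift_whiskerLeft, spMap_comp, spMap_comp, spMap_comp, mapRange_uG, mapRange_uX]
  rw [fam, fam, IsIso.eq_inv_comp, ← Category.assoc, ← key, Category.assoc, IsIso.hom_inv_id_assoc, spMap_comp]

/-- A family of homomorphisms has group-like values. -/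
theorem isGL_of_family {T : Type u} [CommRing T] [Algebra R T] {g : MonoidAlgebra R N →ₐ[R] MonoidAlgebra T M}
    (h : AutFam.IsHomFamily (sp R (MonoidAlgebra R M)) (sp R (MonoidAlgebra R N)) (fam g)) (n : N) :
    IsGL (g (MonoidAlgebra.single n 1)) := by
  let C2 := MonoidAlgebra T (M × M)
  let il : MonoidAlgebra T M →ₐ[T] C2 := MonoidAlgebra.mapDomainAlgHom T T (MonoidHom.inl M M)
  let ir : MonoidAlgebra T M →ₐ[T] C2 := MonoidAlgebra.mapDomainAlgHom T T (MonoidHom.inr M M)
  let dg : MonoidAlgebra T M →ₐ[T] C2 := MonoidAlgebra.mapDomainAlgHom T T ((MonoidHom.id M).prod (MonoidHom.id M))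
  let t : sp R C2 ⟶ sp R T := spMap (IsScalarTower.toAlgHom R T C2)
  let pt : (MonoidAlgebra T M →ₐ[T] C2) → (sp R C2 ⟶ sp R (MonoidAlgebra R M)) := fun f =>
    spMap ((f.restrictScalars R).comp uG)
  have hX : ∀ f : MonoidAlgebra T M →ₐ[T] C2, (f.restrictScalars R).comp uX = IsScalarTower.toAlgHom R T C2 :=
    fun f => AlgHom.ext fun x => by
      show f (MonoidAlgebra.single (1 : M) x) = algebraMap T C2 x
      exact f.commutes x
  have hl : ∀ f, lift (pt f) t ≫ fam g = spMap ((f.restrictScalars R).comp g) := fun f => by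
    have : lift (pt f) t = spMap (f.restrictScalars R) ≫ pr T := by
      rw [pr, comp_lift, spMap_comp, spMap_comp, hX]
    rw [this, fam, Category.assoc, IsIso.hom_inv_id_assoc, spMap_comp]
  have hpm : pt il * pt ir = pt dg := point_mul fun m => by
    show il (uG (MonoidAlgebra.single m 1)) * ir (uG (MonoidAlgebra.single m 1)) = dg (uG (MonoidAlgebra.single m 1))
    rw [uG_single]
    show MonoidAlgebra.mapDomainAlgHom T T _ _ * MonoidAlgebra.mapDomainAlgHom T T _ _ = MonoidAlgebra.mapDomainAlgHom T T _ _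
    rw [MultCentral18.mda_inl, MultCentral18.mda_inr, MultCentral18.mda_diag]
    exact MultCentral18.single_mul_diag (T := T) m
  have h2 := h _ (pt il) (pt ir) t
  rw [hpm, hl, hl, hl, spMap_mul] at h2
  have h3 := DFunLike.congr_fun (spMap_injective h2) (MonoidAlgebra.single n (1 : R))
  exact h3.trans (mul_single ((il.restrictScalars R).comp g) ((ir.restrictScalars R).comp g) n)

/-- The family of a homomorphism of character groups. -/
theorem isHomFamily_const (φ : N →* M) :
    AutFam.IsHomFamily (sp R (MonoidAlgebra R M)) (sp R (MonoidAlgebra R N))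
      (fam ((uG (k := R) (A := R) (N := M)).comp
        ((MonoidAlgebra.mapDomainBialgHom R φ : _ →ₐc[R] _) : MonoidAlgebra R N →ₐ[R] MonoidAlgebra R M))) := by
  let c := spMap ((MonoidAlgebra.mapDomainBialgHom R φ : _ →ₐc[R] _) : MonoidAlgebra R N →ₐ[R] MonoidAlgebra R M)
  haveI : IsMonHom c := isMonHom_spMap _
  have e : fam ((uG (k := R) (A := R) (N := M)).comp
      ((MonoidAlgebra.mapDomainBialgHom R φ : _ →ₐc[R] _) : MonoidAlgebra R N →ₐ[R] MonoidAlgebra R M)) =
      fst _ _ ≫ c := by
    rw [fam, IsIso.inv_comp_eq, pr, lift_fst_assoc, spMap_comp]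
  intro X g₁ g₂ t
  rw [e, lift_fst_assoc, lift_fst_assoc, lift_fst_assoc, MonObj.mul_comp]

variable (R M N) in
/-- The locally constant functions on the set of homomorphisms. -/
abbrev homFn : Type u := (N →* M) → R

set_option maxHeartbeats 2000000 in
/-- A representing algebra is the algebra of functions on the set of homomorphisms. -/
theorem nonempty_algEquiv_of_rep [Finite M] [Finite N] {W : Type u} [CommRing W] [Algebra R W]
    (υ : sp R (MonoidAlgebra R M) ⊗ sp R W ⟶ sp R (MonoidAlgebra R N))
    (hυ : AutFam.RepresentsHom (sp R (MonoidAlgebra R M)) (sp R (MonoidAlgebra R N)) (sp R W) υ) :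
    Nonempty (homFn R M N ≃ₐ[R] W) := by
  classical
  haveI : Fintype M := Fintype.ofFinite M
  haveI : Fintype N := Fintype.ofFinite N
  haveI : Finite (N →* M) := Finite.of_injective (fun f => (f : N → M)) DFunLike.coe_injective
  haveI : Fintype (N →* M) := Fintype.ofFinite _
  obtain ⟨g, rfl⟩ := exists_fam υ
  let gn : N → MonoidAlgebra W M := fun n => g (MonoidAlgebra.single n 1)
  have hgl : ∀ n, IsGL (gn n) := isGL_of_family hυ.1
  have hmul : ∀ a b, gn (a * b) = gn a * gn b := fun a b => by
    simp only [gn, ← map_mul, MonoidAlgebra.single_mul_single, _root_.mul_one]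
  have hu : ∀ n, IsUnit (gn n) := fun n => IsUnit.of_mul_eq_one (gn n⁻¹) (by
    rw [← hmul, mul_inv_cancel]
    simp only [gn, ← MonoidAlgebra.one_def, map_one])
  let E : (N →* M) → W := fun φ => piece gn φ
  let ev : homFn R M N →ₐ[R] W := AlgHom.ofLinearMap
    { toFun := fun l => ∑ φ, algebraMap R W (l φ) * E φ
      map_add' := fun a b => by simp [add_mul, Finset.sum_add_distrib]
      map_smul' := fun r a => by simp [Finset.mul_sum, Algebra.smul_def, _root_.mul_assoc] }
    (by
      show ∑ φ, algebraMap R W ((1 : homFn R M N) φ) * E φ = 1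
      simp only [Pi.one_apply, map_one, _root_.one_mul]
      exact sum_piece hgl hu hmul)
    (fun a b => by
      show ∑ φ, algebraMap R W (a φ * b φ) * E φ =
        (∑ φ, algebraMap R W (a φ) * E φ) * ∑ ψ, algebraMap R W (b ψ) * E ψ
      rw [Finset.sum_mul_sum]
      refine Finset.sum_congr rfl fun φ _ => ?_
      rw [Finset.sum_eq_single φ (fun ψ _ hψ => by
          rw [_root_.mul_mul_mul_comm, piece_orth hgl (fun h => hψ (DFunLike.coe_injective h).symm), mul_zero])
        (fun h => (h (Finset.mem_univ φ)).elim), map_mul, _root_.mul_mul_mul_comm _ (E φ), piece_idem hgl])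
  have hπ : ∀ φ : N →* M, ∃ p : W →ₐ[R] R, ∀ n,
      MonoidAlgebra.mapAlgHom M p (gn n) = MonoidAlgebra.single (φ n) 1 := fun φ => by
    obtain ⟨a, ha, -⟩ := hυ.2 (sp R R) _ (isHomFamily_const φ)
    obtain ⟨p, rfl⟩ := exists_spMap_eq a
    refine ⟨p, fun n => ?_⟩
    have h := DFunLike.congr_fun (fam_inj ((whisker_fam p g).symm.trans ha)) (MonoidAlgebra.single n (1 : R))
    refine h.trans ?_
    show uG (MonoidAlgebra.mapDomainBialgHom R φ (MonoidAlgebra.single n 1)) = _
    rw [show MonoidAlgebra.mapDomainBialgHom R φ (MonoidAlgebra.single n (1 : R)) = MonoidAlgebra.single (φ n) 1 from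
      MonoidAlgebra.mapDomain_single, uG_single]
  choose p hp using hπ
  let π : W →ₐ[R] homFn R M N := Pi.algHom R (fun _ => R) p
  have hcoeff : ∀ φ n m, p φ ((gn n).coeff m) = if φ n = m then 1 else 0 := fun φ n m => by
    have h : (MonoidAlgebra.mapAlgHom M (p φ) (gn n)).coeff m =
        (MonoidAlgebra.single (φ n) (1 : R)).coeff m := by rw [hp]
    rw [MonoidAlgebra.coeff_single, Finsupp.single_apply] at h
    refine Eq.trans ?_ h
    simp
  have hπE : ∀ φ ψ, p φ (E ψ) = if φ = ψ then 1 else 0 := fun φ ψ => by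
    simp only [E, piece, map_prod, hcoeff]
    split_ifs with h
    · subst h; simp
    · obtain ⟨n, hn⟩ : ∃ n, φ n ≠ ψ n := by
        by_contra hne
        push Not at hne
        exact h (MonoidHom.ext hne)
      exact Finset.prod_eq_zero (Finset.mem_univ n) (if_neg hn)
  have h1 : π.comp ev = AlgHom.id R _ := AlgHom.ext fun l => funext fun φ => by
    show p φ (∑ ψ, algebraMap R W (l ψ) * E ψ) = l φ
    rw [map_sum, Finset.sum_eq_single φ (fun ψ _ hψ => by rw [map_mul, hπE, if_neg (Ne.symm hψ), mul_zero])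
      (fun h => (h (Finset.mem_univ φ)).elim), map_mul, hπE, if_pos rfl, AlgHom.commutes, _root_.mul_one,
      Algebra.algebraMap_self, RingHom.id_apply]
  have hg' : (MonoidAlgebra.mapAlgHom M (ev.comp π)).comp g = g := MonoidAlgebra.algHom_ext (fun n => by
    refine MonoidAlgebra.ext (Finsupp.ext fun m => ?_)
    show (MonoidAlgebra.mapAlgHom M (ev.comp π) (gn n)).coeff m = (gn n).coeff m
    rw [show (MonoidAlgebra.mapAlgHom M (ev.comp π) (gn n)).coeff m = ev (π ((gn n).coeff m)) by simp]
    show ∑ φ, algebraMap R W (p φ ((gn n).coeff m)) * E φ = _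
    refine Eq.trans ?_ (sum_pieces_at hgl hu hmul n m)
    refine Finset.sum_congr rfl fun φ _ => ?_
    rw [hcoeff]
    split_ifs <;> simp [E]) (by ext)
  have h2 : ev.comp π = AlgHom.id R W := spMap_inj ((hυ.2 (sp R W) (fam g) hυ.1).unique
    ((whisker_fam (ev.comp π) g).trans (by rw [hg'])) (by
      show (sp R (MonoidAlgebra R M) ◁ spMap (AlgHom.id R W)) ≫ fam g = fam g
      rw [spMap_id, MonoidalCategory.whiskerLeft_id, Category.id_comp]))
  exact ⟨AlgEquiv.ofAlgHom ev π h2 h1⟩

/-- Hom between finite diagonalisable groups is finite etale. -/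
theorem isFinite_etale_of_rep [Finite M] [Finite N] (A : Over (Spec (CommRingCat.of R))) [IsAffineHom A.hom]
    (υ : sp R (MonoidAlgebra R M) ⊗ A ⟶ sp R (MonoidAlgebra R N))
    (hυ : AutFam.RepresentsHom (sp R (MonoidAlgebra R M)) (sp R (MonoidAlgebra R N)) A υ) :
    IsFinite A.hom ∧ Etale A.hom := by
  haveI : IsAffine A.left := isAffine_of_isAffineHom A.hom
  obtain ⟨W, _, _, ⟨e⟩⟩ := WeilRes28.exists_iso_aff A
  let e' : sp R W ≅ A := e
  have hrep : AutFam.RepresentsHom (sp R (MonoidAlgebra R M)) (sp R (MonoidAlgebra R N)) (sp R W)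
      ((sp R (MonoidAlgebra R M) ◁ e'.hom) ≫ υ) := by
    refine ⟨fun X g₁ g₂ t => ?_, fun T φ hφ => ?_⟩
    · simp only [lift_whiskerLeft_assoc]
      exact hυ.1 X g₁ g₂ _
    · obtain ⟨a, ha, hu⟩ := hυ.2 T φ hφ
      refine ⟨a ≫ e'.inv, ?_, fun b hb => ?_⟩
      · show (_ ◁ (a ≫ e'.inv)) ≫ (_ ◁ e'.hom) ≫ υ = φ
        rw [← MonoidalCategory.whiskerLeft_comp_assoc, Category.assoc, e'.inv_hom_id, Category.comp_id]
        exact ha
      · rw [← hu (b ≫ e'.hom) (by
          show (_ ◁ (b ≫ e'.hom)) ≫ υ = φ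
          rw [MonoidalCategory.whiskerLeft_comp_assoc]
          exact hb), Category.assoc, e'.hom_inv_id, Category.comp_id]
  obtain ⟨q⟩ := nonempty_algEquiv_of_rep _ hrep
  haveI : Finite (N →* M) := Finite.of_injective (fun f => (f : N → M)) DFunLike.coe_injective
  have hfin : (algebraMap R W).Finite :=
    RingHom.finite_algebraMap.mpr (Module.Finite.equiv q.toLinearEquiv)
  have het : (algebraMap R W).Etale :=
    RingHom.etale_algebraMap.mpr (Algebra.Etale.of_equiv q)
  haveI : IsIso e'.inv.left := WeilRes28.isIso_left_hom e'.symm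
  have hA : A.hom = e'.inv.left ≫ Spec.map (CommRingCat.ofHom (algebraMap R W)) := (Over.w e'.inv).symm
  haveI : IsFinite (Spec.map (CommRingCat.ofHom (algebraMap R W))) := (IsFinite.SpecMap_iff _).mpr hfin
  haveI : Etale (Spec.map (CommRingCat.ofHom (algebraMap R W))) :=
    (HasRingHomProperty.Spec_iff (P := @Etale)).mpr het
  rw [hA]
  exact ⟨inferInstance, inferInstance⟩

end Groth.Agent.HomRep18
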